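import Cfsg.Agent.BC84.Sixteen.Combinatorics

/-!
# The inequality of Bessel for the three sections
-/

set_option autoImplicit false

namespace Cfsg.Agent.BC84.Sixteen

variable {ι : Type*} [Fintype ι] (m n : ι → Fin 4 → ℤ) (d D : ι → ℤ)

theorem bessel (hm1 : ∀ r, ∑ i, m r i = d r) (hn1 : ∀ r, ∑ i, n r i = d r)
    (hmm : ∀ i j, ∑ r, m r i * m r j = if i = j then 4 else 0)
    (hnn : ∀ i j, ∑ r, n r i * n r j = if i = j then 4 else 0)
    (hmn : ∀ i j, ∑ r, m r i * n r j = 1) (hmd : ∀ i, ∑ r, m r i * d r = 4)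
    (hnd : ∀ i, ∑ r, n r i * d r = 4) (hdd : ∑ r, d r ^ 2 = 16)
    (hmD : ∀ i, ∑ r, m r i * D r = 0) (hnD : ∀ i, ∑ r, n r i * D r = 0)
    (hdD : ∑ r, d r * D r = 0) (x : ι → ℤ) :
    4 * (∑ i, (∑ r, x r * m r i) ^ 2 + ∑ i, (∑ r, x r * n r i) ^ 2) - (∑ r, x r * d r) ^ 2 ≤
        16 * ∑ r, x r ^ 2 ∧
      (∑ r, x r * D r ≠ 0 →
        4 * (∑ i, (∑ r, x r * m r i) ^ 2 + ∑ i, (∑ r, x r * n r i) ^ 2) - (∑ r, x r * d r) ^ 2 <
          16 * ∑ r, x r ^ 2) := by
  set X : Fin 4 → ℤ := fun i => ∑ r, x r * m r i with hX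
  set Y : Fin 4 → ℤ := fun i => ∑ r, x r * n r i with hY
  set Z : ℤ := ∑ r, x r * d r with hZ
  have hXs : ∑ i, X i = Z := by
    simp only [hX, hZ]; rw [Finset.sum_comm]; simp [← Finset.mul_sum, hm1]
  have hYs : ∑ i, Y i = Z := by
    simp only [hY, hZ]; rw [Finset.sum_comm]; simp [← Finset.mul_sum, hn1]
  set w : ι → ℤ := fun r => 16 * x r - 4 * ∑ i, X i * m r i - 4 * ∑ i, Y i * n r i + Z * d r with hw
  have hpair : ∀ f : ι → ℤ, ∑ r, w r * f r = 16 * ∑ r, x r * f r - 4 * ∑ i, X i * ∑ r, m r i * f r -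
      4 * ∑ i, Y i * ∑ r, n r i * f r + Z * ∑ r, d r * f r := by
    intro f
    simp only [hw, sub_mul, add_mul, Finset.sum_sub_distrib, Finset.sum_add_distrib, mul_assoc,
      Finset.sum_mul, Finset.mul_sum]
    congr 2
    · congr 1
      exact Finset.sum_comm
    · exact Finset.sum_comm
  have hdm : ∀ i, ∑ r, d r * m r i = 4 := fun i => by
    rw [← hmd i]; exact Finset.sum_congr rfl fun r _ => mul_comm _ _
  have hdn : ∀ i, ∑ r, d r * n r i = 4 := fun i => by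
    rw [← hnd i]; exact Finset.sum_congr rfl fun r _ => mul_comm _ _
  have hnm : ∀ i j, ∑ r, n r i * m r j = 1 := fun i j => by
    rw [← hmn j i]; exact Finset.sum_congr rfl fun r _ => mul_comm _ _
  have wm : ∀ j, ∑ r, w r * m r j = 0 := fun j => by
    rw [hpair]
    simp only [hmm, hnm, hdm, mul_one, hYs]
    simp [hX]
    ring
  have wn : ∀ j, ∑ r, w r * n r j = 0 := fun j => by
    rw [hpair]
    simp only [hnn, hmn, hdn, mul_one, hXs]
    simp [hY]
    ring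
  have wd : ∑ r, w r * d r = 0 := by
    rw [hpair]
    simp only [hmd, hnd, ← Finset.sum_mul, hXs, hYs]
    rw [← hZ, show ∑ r, d r * d r = 16 by rw [← hdd]; simp [sq]]
    ring
  have wx : ∑ r, w r * x r = 16 * ∑ r, x r ^ 2 - 4 * ∑ i, X i ^ 2 - 4 * ∑ i, Y i ^ 2 + Z ^ 2 := by
    rw [hpair]
    simp only [hX, hY, hZ, sq, mul_comm (d _) (x _), mul_comm (m _ _) (x _), mul_comm (n _ _) (x _)]
  have ww : ∑ r, w r ^ 2 = 16 * ∑ r, w r * x r := by
    have : ∀ r, w r ^ 2 = 16 * (w r * x r) - 4 * ∑ i, X i * (w r * m r i) -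
        4 * ∑ i, Y i * (w r * n r i) + Z * (w r * d r) := fun r => by
      simp only [mul_left_comm (X _) (w r), mul_left_comm (Y _) (w r), ← Finset.mul_sum]
      rw [sq]
      conv_lhs => arg 2; rw [hw]
      ring
    rw [Finset.sum_congr rfl fun r _ => this r, Finset.sum_add_distrib, Finset.sum_sub_distrib,
      Finset.sum_sub_distrib, ← Finset.mul_sum, ← Finset.mul_sum, ← Finset.mul_sum, ← Finset.mul_sum,
      Finset.sum_comm, wd]
    rw [Finset.sum_eq_zero (s := (Finset.univ : Finset (Fin 4))) fun i _ => by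
        rw [← Finset.mul_sum, wm, mul_zero], Finset.sum_comm,
      Finset.sum_eq_zero (s := (Finset.univ : Finset (Fin 4))) fun i _ => by
        rw [← Finset.mul_sum, wn, mul_zero]]
    ring
  have hnn' : 0 ≤ ∑ r, w r ^ 2 := Finset.sum_nonneg fun r _ => sq_nonneg _
  refine ⟨by linarith [ww, wx], fun hne => ?_⟩
  have hpos : 0 < ∑ r, w r ^ 2 := by
    refine lt_of_le_of_ne hnn' fun h0 => hne ?_
    have hz := (Finset.sum_eq_zero_iff_of_nonneg fun r _ => sq_nonneg (w r)).mp h0.symm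
    have h := hpair D
    rw [Finset.sum_eq_zero fun r hr => by rw [(pow_eq_zero_iff two_ne_zero).mp (hz r hr), zero_mul]] at h
    simp only [hmD, hnD, hdD, mul_zero, Finset.sum_const_zero, sub_zero, add_zero] at h
    omega
  linarith [ww, wx]

end Cfsg.Agent.BC84.Sixteen
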