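import Cfsg.Agent.BC84.Sixteen.Sections
import Cfsg.Agent.BC84.Sixteen.Bessel
import Cfsg.Agent.S4646

/-!
# The principal block with elementary abelian Sylow group of order sixteen and inertial index nine
-/

set_option autoImplicit false
set_option linter.unusedSectionVars false

open Cfsg

namespace Cfsg.Agent.BC84.Sixteen

universe u

variable {G : Type u} [Group G] [Finite G] {M : Ideal AlgInt} {P : Sylow 2 G}

theorem Rot.swap_c (R : Rot P) : R.swap.c = R.c :=
  R.comm _ R.swap.mem_aP _ R.mem_aP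

theorem main (hM : IsPModular 2 M) (R : Rot P) :
    Nat.card (principalBlock M G) = 16 ∧ blockRank 2 (principalBlock M G) = 9 := by
  classical
  haveI : Fact (Nat.Prime 2) := ⟨Nat.prime_two⟩
  have := BlocksCore.isPrime hM
  haveI := Fintype.ofFinite G
  haveI := BlocksCore.finite_irr (G := G)
  haveI := Fintype.ofFinite (principalBlock M G)
  obtain ⟨d, hd, hd0, hd2, hdv⟩ := c_section R hM
  obtain ⟨m, hm1, hmm, hmd, hmv, hmx, hra⟩ := a_section R hM d hd hd2 hdv
  obtain ⟨n, hn1, hnn, hnd, hnv, hnx, hrb⟩ := a_section R.swap hM d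
    (fun χ => by rw [R.swap_c]; exact hd χ) hd2 (fun g hg => hdv g (by rw [R.swap_c] at hg; exact hg))
  have hba : ∀ g : G, IsConj (BlocksDefect.pp 2 g) R.swap.a →
      ¬ IsConj (BlocksDefect.pp 2 g) R.a := fun g h1 h2 =>
    R.not_mem_B ((R.isConj_A_iff R.swap.mem_aP R.mem_aP (h1.symm.trans h2)).2 R.mem_b)
  have hbc : ∀ g : G, IsConj (BlocksDefect.pp 2 g) R.swap.a →
      ¬ IsConj (BlocksDefect.pp 2 g) R.c := fun g h1 h2 =>
    R.c_not_mem_B ((R.isConj_A_iff R.swap.mem_aP R.mem_c (h1.symm.trans h2)).2 R.mem_b)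
  have hmn : ∀ i j, ∑ χ, m χ i * n χ j = 1 := by
    intro i j
    have h := hnx (fun χ => (m χ i : ℂ)) (fun g hg => hmv i g (hba g hg) (hbc g hg)) j
    have h4 : ∑ χ, (m χ i : ℂ) * (d χ : ℂ) = 4 := by exact_mod_cast hmd i
    rw [h4] at h
    norm_num at h
    exact_mod_cast h
  set D : principalBlock M G → ℤ := fun χ => (charDegree ((χ : IrrCharacter G) : G → ℂ) : ℤ)
  have hone : ∀ χ : principalBlock M G, ((χ : IrrCharacter G) : G → ℂ) 1 = (D χ : ℂ) := fun χ => by
    rw [BlocksCore.irr_one_eq]; simp [D]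
  have hpp1 : BlocksDefect.pp 2 (1 : G) = 1 := BlocksDefect.pp_regular (by simp)
  have hn1' : ∀ y : G, y ≠ 1 → ¬ IsConj (BlocksDefect.pp 2 (1 : G)) y := fun y hy h => by
    rw [hpp1] at h; exact hy (isConj_one_right.mp h)
  have hzero : ∀ f : principalBlock M G → ℤ,
      ∑ χ, (f χ : ℂ) * ((χ : IrrCharacter G) : G → ℂ) 1 = 0 → ∑ χ, f χ * D χ = 0 := by
    intro f h
    simp only [hone] at h
    exact_mod_cast h
  have hmD : ∀ i, ∑ χ, m χ i * D χ = 0 := fun i => hzero _
    (hmv i 1 (hn1' _ R.ne_a) (hn1' _ R.c_ne_one))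
  have hnD : ∀ i, ∑ χ, n χ i * D χ = 0 := fun i => hzero _
    (hnv i 1 (hn1' _ R.swap.ne_a) (hn1' _ R.swap.c_ne_one))
  have hdD : ∑ χ, d χ * D χ = 0 := hzero _ (hdv 1 (hn1' _ R.c_ne_one))
  have hB := bessel m n d D hm1 hn1 hmm hnn hmn hmd hnd hd2 hmD hnD hdD
  have hsingle : ∀ (r : principalBlock M G) (f : principalBlock M G → ℤ) (e : ℤ),
      ∑ χ, (if χ = r then e else 0) * f χ = e * f r := fun r f e => by
    rw [Finset.sum_eq_single r (fun χ _ h => by rw [if_neg h, zero_mul]) (by simp), if_pos rfl]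
  have h8 := card_eq m n hmm hnn (fun r => by rw [rsum, rsum, hm1, hn1])
    (fun r => by rw [rsum, hm1]; exact hd0 r)
    (fun r => by
      have h := (hB fun χ => if χ = r then 1 else 0).2 (by
        rw [hsingle, one_mul]
        exact Int.natCast_ne_zero.mpr (BlocksCore.charDegree_pos _).ne')
      simp only [hsingle, one_mul, ite_pow, one_pow, zero_pow two_ne_zero, Finset.sum_ite_eq',
        Finset.mem_univ, if_true] at h
      simpa [rnorm, rsum, hm1] using h)
    (fun r s hrs e f => by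
      have h := (hB fun χ => (if χ = r then e else 0) + (if χ = s then f else 0)).1
      simp only [add_mul, Finset.sum_add_distrib, hsingle] at h
      have e2 : ∑ χ : principalBlock M G,
          ((if χ = r then e else 0) + (if χ = s then f else 0)) ^ 2 = e ^ 2 + f ^ 2 := by
        rw [Finset.sum_congr rfl (g := fun χ => (if χ = r then e ^ 2 else 0) +
          (if χ = s then f ^ 2 else 0)) (fun χ _ => by
            by_cases h1 : χ = r
            · subst h1; simp [hrs]
            · simp [h1, ite_pow]), Finset.sum_add_distrib]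
        simp
      rw [e2] at h
      simpa [rsum, hm1] using h)
  rw [← Nat.card_eq_fintype_card] at h8
  -- the count
  obtain ⟨K, hK, -, hodd⟩ := R.exists_sectionData_c
  obtain ⟨hX, hXrep⟩ := R.classes
  have h := ZStar.natCard_principal_eq_sum hM ({1, R.a, R.b, R.c} : Finset G) hX hXrep
  have n1 : (1 : G) ≠ R.a := fun e => R.ne_a e.symm
  have n2 : (1 : G) ≠ R.b := fun e => R.ne_b e.symm
  have n3 : (1 : G) ≠ R.c := fun e => R.c_ne_one e.symm
  have n4 : R.a ≠ R.b := fun e => R.not_mem_B (e ▸ R.mem_b)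
  have n5 : R.a ≠ R.c := fun e => R.c_not_mem_A (e ▸ R.mem_a)
  have n6 : R.b ≠ R.c := fun e => R.c_not_mem_B (e ▸ R.mem_b)
  rw [Finset.sum_insert (by simp [n1, n2, n3]), Finset.sum_insert (by simp [n4, n5]),
    Finset.sum_pair n6, ZStar.blockRank_centralizer_of_mem_center (one_mem _),
    ZStar.blockRank_section_eq_one hM hK hodd] at h
  have hrb' : blockRank 2 (principalBlock M (Subgroup.centralizer ({R.b} : Set G))) = 3 := hrb
  have hra' : blockRank 2 (principalBlock M (Subgroup.centralizer ({R.a} : Set G))) = 3 := hra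
  rw [hra', hrb'] at h
  have hne8 : Nat.card (principalBlock M G) ≠ 8 := by
    intro h'
    have hl : blockRank 2 (principalBlock M G) = 1 := by omega
    obtain ⟨S, N, hN, hc⟩ := (BC85.hasNormalPComplement_iff_nilpotentBlock hM).mpr
      ((S4646.result 2 M hM).mpr hl)
    haveI := hN
    have hq : ∀ x y : G ⧸ N, x * y = y * x := by
      have key : ∀ q : G ⧸ N, ∃ s ∈ (S : Subgroup G), QuotientGroup.mk s = q := by
        intro q
        obtain ⟨g, rfl⟩ := QuotientGroup.mk_surjective q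
        obtain ⟨⟨k, s⟩, hks⟩ := (hc.existsUnique g).exists
        refine ⟨s, s.2, ?_⟩
        rw [← hks]
        simp [QuotientGroup.mk_mul, (QuotientGroup.eq_one_iff (k : G)).mpr k.2]
      obtain ⟨g, hg⟩ := MulAction.exists_smul_eq G P S
      intro x y
      obtain ⟨s, hs, rfl⟩ := key x
      obtain ⟨t, ht, rfl⟩ := key y
      rw [← hg] at hs ht
      obtain ⟨s', hs', rfl⟩ := hs
      obtain ⟨t', ht', rfl⟩ := ht
      rw [← QuotientGroup.mk_mul, ← QuotientGroup.mk_mul]
      show QuotientGroup.mk (g * s' * g⁻¹ * (g * t' * g⁻¹)) =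
        (QuotientGroup.mk (g * t' * g⁻¹ * (g * s' * g⁻¹)) : G ⧸ N)
      rw [conj_mul, conj_mul, R.comm s' hs' t' ht']
    have hr := R.r_A _ R.mem_a R.ne_a
    refine hr ?_
    have hy : R.r * R.a * R.r⁻¹ ∈ R.A := R.norm_A _ R.norm_r _ R.mem_a
    have hm : R.a⁻¹ * (R.r * R.a * R.r⁻¹) ∈ N := by
      rw [← QuotientGroup.eq, QuotientGroup.mk_mul, QuotientGroup.mk_mul, hq, ← mul_assoc,
        QuotientGroup.mk_inv, inv_mul_cancel, one_mul]
    have hP' : R.a⁻¹ * (R.r * R.a * R.r⁻¹) ∈ (P : Subgroup G) :=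
      R.le_A (R.A.mul_mem (R.A.inv_mem R.mem_a) hy)
    have hN2 : ¬ 2 ∣ Nat.card N := by
      intro hd'
      have := S.not_dvd_index
      rw [hc.index_eq_card] at this
      exact this hd'
    by_contra hne
    have hne' : R.a⁻¹ * (R.r * R.a * R.r⁻¹) ≠ 1 := fun e => hne (inv_mul_eq_one.mp e).symm
    exact hN2 (R.orderOf_two hP' hne' ▸ Subgroup.orderOf_dvd_natCard N hm)
  omega

end Cfsg.Agent.BC84.Sixteen
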