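import Mathlib.GroupTheory.PGroup
import Mathlib.GroupTheory.GroupAction.Quotient
import Mathlib.GroupTheory.Subgroup.Centralizer
import Mathlib.Tactic.Group

/-!
# Groups of order nine acting faithfully on an elementary abelian group of order sixteen
-/

set_option autoImplicit false

namespace Cfsg.Agent.BC84.Sixteen

variable {V : Type*} [Group V] [Finite V]

/-- The fixed subgroup of an automorphism. -/
def fixSub (σ : MulAut V) : Subgroup V := MonoidHom.eqLocus σ.toMonoidHom (MonoidHom.id V)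

omit [Finite V] in
theorem mem_fixSub {σ : MulAut V} {x : V} : x ∈ fixSub σ ↔ σ x = x := Iff.rfl

theorem fixSub_ne_top {σ : MulAut V} (h : σ ≠ 1) : fixSub σ ≠ ⊤ := fun ht =>
  h (MulEquiv.ext fun x => mem_fixSub.mp (ht ▸ Subgroup.mem_top x))

omit [Finite V] in
/-- An action without fixed points has orbits of full length. -/
theorem dvd_of_free (H : Subgroup (MulAut V)) (S : Set V)
    (hS : ∀ σ ∈ H, ∀ x ∈ S, σ x ∈ S) (hfree : ∀ σ ∈ H, ∀ x ∈ S, σ x = x → σ = 1) :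
    Nat.card H ∣ Nat.card S := by
  letI : MulAction H S :=
    { smul := fun σ x => ⟨(σ : MulAut V) x, hS σ σ.2 x x.2⟩
      one_smul := fun x => Subtype.ext rfl
      mul_smul := fun σ τ x => Subtype.ext rfl }
  have h : ∀ b : S, MulAction.stabilizer H b = ⊥ := fun b => by
    rw [Subgroup.eq_bot_iff_forall]
    intro σ hσ
    exact Subtype.ext (hfree σ σ.2 b b.2 (congrArg Subtype.val (MulAction.mem_stabilizer_iff.mp hσ)))
  rw [Nat.card_congr (MulAction.selfEquivOrbitsQuotientProd h), Nat.card_prod]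
  exact dvd_mul_left _ _

theorem card_compl (F : Subgroup V) :
    Nat.card ((F : Set V)ᶜ : Set V) = Nat.card V - Nat.card F := by
  rw [Nat.card_coe_set_eq, Set.ncard_compl, ← Nat.card_coe_set_eq]
  rfl

theorem pow_three_eq_one (h16 : Nat.card V = 16) {Q : Subgroup (MulAut V)} (hQ : Nat.card Q = 9)
    {σ : MulAut V} (hσ : σ ∈ Q) : σ ^ 3 = 1 := by
  by_contra hne
  have h9 : orderOf σ = 9 := by
    have hd : orderOf σ ∣ 3 ^ 2 := by
      have := Subgroup.orderOf_dvd_natCard Q hσ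
      rwa [hQ] at this
    obtain ⟨i, hi, he⟩ := (Nat.dvd_prime_pow Nat.prime_three).mp hd
    interval_cases i
    · exact absurd (orderOf_eq_one_iff.mp (by simpa using he)) fun h => hne (by simp [h])
    · exact absurd (orderOf_dvd_iff_pow_eq_one.mp (by rw [he]; rfl)) hne
    · rw [he]; norm_num
  set F := fixSub (σ ^ 3) with hF
  have hdiv := dvd_of_free (Subgroup.zpowers σ) ((F : Set V)ᶜ) (fun τ hτ x hx hmem => ?_)
    (fun τ hτ x hx hfx => ?_)
  · rw [Nat.card_zpowers, h9, card_compl, h16] at hdiv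
    have hlt : Nat.card F < 16 := h16 ▸ lt_of_le_of_ne (Subgroup.card_le_card_group F)
      (fun e => fixSub_ne_top hne ((Subgroup.card_eq_iff_eq_top F).mp e))
    have hdvd : Nat.card F ∣ 16 := h16 ▸ Subgroup.card_subgroup_dvd_card F
    obtain ⟨i, hi, he⟩ := (Nat.dvd_prime_pow Nat.prime_two).mp (show Nat.card F ∣ 2 ^ 4 by simpa using hdvd)
    interval_cases i <;> omega
  · refine hx ?_
    have hc : Commute τ (σ ^ 3) := by
      obtain ⟨k, rfl⟩ := Subgroup.mem_zpowers_iff.mp hτ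
      exact (Commute.zpow_left (Commute.refl σ) k).pow_right 3
    rw [SetLike.mem_coe, hF, mem_fixSub] at hmem ⊢
    have h := DFunLike.congr_fun hc.eq x
    simp only [MulAut.mul_apply] at h
    rw [← h] at hmem
    exact τ.injective hmem
  · by_contra hτ1
    refine hx ?_
    obtain ⟨k, hk, rfl⟩ : ∃ k : ℕ, k < 9 ∧ σ ^ k = τ := by
      rw [← mem_powers_iff_mem_zpowers] at hτ
      obtain ⟨n, rfl⟩ := Submonoid.mem_powers_iff _ _ |>.mp hτ
      exact ⟨n % 9, Nat.mod_lt _ (by norm_num), by rw [← h9, pow_mod_orderOf]⟩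
    rw [SetLike.mem_coe, hF, mem_fixSub]
    have hmem : σ ^ k ∈ MulAction.stabilizer (MulAut V) x := hfx
    have hgcd : Nat.gcd k 9 ∣ 3 := by
      interval_cases k <;> first | (exact absurd (pow_zero σ) hτ1) | decide
    have hg : σ ^ Nat.gcd k 9 ∈ MulAction.stabilizer (MulAut V) x := by
      have h2 : σ ^ (k : ℤ) ∈ MulAction.stabilizer (MulAut V) x := by rwa [zpow_natCast]
      rw [← zpow_natCast, Nat.gcd_eq_gcd_ab, zpow_add, zpow_mul, zpow_mul, zpow_natCast σ 9, ← h9,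
        pow_orderOf_eq_one, one_zpow, mul_one]
      exact zpow_mem h2 _
    obtain ⟨e, he⟩ := hgcd
    rw [he, pow_mul]
    exact pow_mem hg e

/-- A subgroup of order four with a fixed point is fixed by an element of order three. -/
theorem fix_of_fix {σ : MulAut V} (h3 : σ ^ 3 = 1) {A : Subgroup V} (hA : Nat.card A = 4)
    (hinv : ∀ τ ∈ Subgroup.zpowers σ, ∀ x ∈ A, τ x ∈ A) {x : V} (hx : x ∈ A) (hx1 : x ≠ 1)
    (hfx : σ x = x) : ∀ y ∈ A, σ y = y := by
  rcases eq_or_ne σ 1 with rfl | hne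
  · exact fun y _ => rfl
  intro y hy
  by_contra hyne
  have h3' : orderOf σ = 3 :=
    haveI : Fact (Nat.Prime 3) := ⟨Nat.prime_three⟩
    orderOf_eq_prime h3 hne
  set S : Set V := (A : Set V) \ (fixSub σ : Set V) with hS
  have hdiv := dvd_of_free (Subgroup.zpowers σ) S (fun τ hτ z hz => ?_) (fun τ hτ z hz hfz => ?_)
  · rw [Nat.card_zpowers, h3'] at hdiv
    have hsub : S ⊆ (A : Set V) \ ({1, x} : Set V) := by
      rintro z ⟨hz1, hz2⟩
      refine ⟨hz1, ?_⟩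
      rintro (rfl | rfl)
      · exact hz2 (one_mem _)
      · exact hz2 hfx
    have hle := Set.ncard_le_ncard hsub (Set.toFinite _)
    have hd := Set.ncard_diff_add_ncard_of_subset (s := ({1, x} : Set V)) (t := (A : Set V))
      (by rintro z (rfl | rfl) <;> [exact one_mem _; exact hx]) (Set.toFinite _)
    rw [Set.ncard_pair (Ne.symm hx1), ← Nat.card_coe_set_eq (A : Set V),
      show Nat.card (A : Set V) = 4 from hA] at hd
    have hpos : 0 < S.ncard := Set.ncard_pos (Set.toFinite _) |>.mpr ⟨y, hy, hyne⟩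
    rw [Nat.card_coe_set_eq] at hdiv
    have := Nat.le_of_dvd hpos hdiv
    omega
  · refine ⟨hinv τ hτ z hz.1, fun hmem => hz.2 ?_⟩
    rw [SetLike.mem_coe, mem_fixSub] at hmem ⊢
    obtain ⟨k, rfl⟩ := Subgroup.mem_zpowers_iff.mp hτ
    have h := DFunLike.congr_fun ((Commute.refl σ).zpow_left k).eq z
    simp only [MulAut.mul_apply] at h
    rw [← h] at hmem
    exact (σ ^ k).injective hmem
  · by_contra hτ1
    obtain ⟨k, hk⟩ : ∃ k : ℕ, σ ^ k = τ := by
      rw [← mem_powers_iff_mem_zpowers] at hτ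
      exact (Submonoid.mem_powers_iff _ _).mp hτ
    refine hz.2 ?_
    rw [SetLike.mem_coe, mem_fixSub]
    have hk3 : σ ^ (k % 3) = τ := by rw [← h3', pow_mod_orderOf, hk]
    have : k % 3 = 1 ∨ k % 3 = 2 := by
      have : k % 3 ≠ 0 := fun h => hτ1 (by rw [← hk3, h, pow_zero])
      omega
    rcases this with h | h <;> rw [h] at hk3
    · rw [pow_one] at hk3; rw [hk3]; exact hfz
    · rw [← hk3] at hfz
      have h4 : (σ ^ 2) ((σ ^ 2) z) = σ z := by
        rw [← MulAut.mul_apply, ← pow_add, show 2 + 2 = 3 + 1 from rfl, pow_add, h3, one_mul, pow_one]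
      rw [hfz, hfz] at h4
      exact h4.symm

theorem commute_apply {σ τ : MulAut V} (h : σ * τ = τ * σ) (x : V) : σ (τ x) = τ (σ x) :=
  DFunLike.congr_fun h x

/-- The decomposition of the group by two elements of the acting group. -/
theorem exists_decomposition (h16 : Nat.card V = 16) (h2 : ∀ x : V, x * x = 1)
    {Q : Subgroup (MulAut V)} (hQ : Nat.card Q = 9) :
    ∃ A B : Subgroup V, ∃ r ∈ Q, ∃ s ∈ Q, Nat.card A = 4 ∧ Nat.card B = 4 ∧ A ⊓ B = ⊥ ∧
      (∀ σ ∈ Q, ∀ x ∈ A, σ x ∈ A) ∧ (∀ σ ∈ Q, ∀ x ∈ B, σ x ∈ B) ∧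
      (∀ σ ∈ Q, ∀ x ∈ A, x ≠ 1 → σ x = x → ∀ y ∈ A, σ y = y) ∧
      (∀ σ ∈ Q, ∀ x ∈ B, x ≠ 1 → σ x = x → ∀ y ∈ B, σ y = y) ∧
      (∀ x ∈ B, r x = x) ∧ (∀ x ∈ A, s x = x) ∧
      (∀ x ∈ A, x ≠ 1 → r x ≠ x) ∧ (∀ x ∈ B, x ≠ 1 → s x ≠ x) ∧
      ∀ x : V, ∃ u ∈ A, ∃ v ∈ B, x = u * v := by
  classical
  haveI : Fact (Nat.Prime 3) := ⟨Nat.prime_three⟩
  have hcomm : ∀ x y : V, x * y = y * x := fun x y => by
    have e : ∀ z : V, z⁻¹ = z := fun z => inv_eq_of_mul_eq_one_right (h2 z)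
    calc x * y = (x * y)⁻¹ := (e _).symm
      _ = y * x := by rw [mul_inv_rev, e, e]
  have hQc : ∀ σ ∈ Q, ∀ τ ∈ Q, σ * τ = τ * σ := fun σ hσ τ hτ =>
    congrArg Subtype.val (IsPGroup.commutative_of_card_eq_prime_sq (p := 3) (by rw [hQ]; rfl)
      (⟨σ, hσ⟩ : Q) ⟨τ, hτ⟩)
  have h3 : ∀ σ ∈ Q, σ ^ 3 = 1 := fun σ hσ => pow_three_eq_one h16 hQ hσ
  obtain ⟨r, hrQ, x₀, hr1, hx₀, hrx₀⟩ : ∃ r ∈ Q, ∃ x : V, r ≠ 1 ∧ x ≠ 1 ∧ r x = x := by
    by_contra hno
    push Not at hno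
    have hdiv := dvd_of_free Q (((⊥ : Subgroup V) : Set V)ᶜ) (fun σ hσ x hx h => hx ?_)
      (fun σ hσ x hx hfx => by_contra fun hσ1 => hno σ hσ x hσ1 (by simpa using hx) hfx)
    · rw [hQ, card_compl, h16, Subgroup.card_bot] at hdiv
      omega
    · simpa using h
  set B := fixSub r with hBdef
  have hBinv : ∀ σ ∈ Q, ∀ x ∈ B, σ x ∈ B := fun σ hσ x hx => by
    rw [hBdef, mem_fixSub] at hx ⊢
    rw [commute_apply (hQc r hrQ σ hσ), hx]
  have hr3 : orderOf r = 3 := orderOf_eq_prime (h3 r hrQ) hr1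
  have hB : Nat.card B = 4 := by
    have hdiv := dvd_of_free (Subgroup.zpowers r) ((B : Set V)ᶜ) (fun τ hτ x hx h => hx ?_)
      (fun τ hτ x hx hfx => ?_)
    · rw [Nat.card_zpowers, hr3, card_compl, h16] at hdiv
      have hlt : Nat.card B < 16 := h16 ▸ lt_of_le_of_ne (Subgroup.card_le_card_group B)
        (fun e => fixSub_ne_top hr1 ((Subgroup.card_eq_iff_eq_top B).mp e))
      have hgt : 1 < Nat.card B := Subgroup.one_lt_card_iff_ne_bot _ |>.mpr
        (fun e => hx₀ (by rw [← Subgroup.mem_bot, ← e]; exact hrx₀))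
      have hdvd : Nat.card B ∣ 16 := h16 ▸ Subgroup.card_subgroup_dvd_card B
      obtain ⟨i, hi, he⟩ := (Nat.dvd_prime_pow Nat.prime_two).mp (show Nat.card B ∣ 2 ^ 4 by simpa using hdvd)
      interval_cases i <;> omega
    · obtain ⟨k, rfl⟩ := Subgroup.mem_zpowers_iff.mp hτ
      rw [SetLike.mem_coe, hBdef, mem_fixSub] at h ⊢
      rw [← commute_apply ((Commute.refl r).zpow_left k).eq] at h
      exact (r ^ k).injective h
    · by_contra hτ1
      refine hx ?_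
      obtain ⟨k, hk⟩ : ∃ k : ℤ, τ ^ k = r := by
        have : Subgroup.zpowers τ = Subgroup.zpowers r := by
          refine Subgroup.eq_of_le_of_card_ge (Subgroup.zpowers_le.mpr hτ) ?_
          rw [Nat.card_zpowers, Nat.card_zpowers, hr3,
            orderOf_eq_prime (h3 τ (Subgroup.zpowers_le.mpr hrQ hτ)) hτ1]
        exact Subgroup.mem_zpowers_iff.mp (this ▸ Subgroup.mem_zpowers r)
      rw [SetLike.mem_coe, hBdef, mem_fixSub, ← hk]
      exact zpow_mem (show τ ∈ MulAction.stabilizer (MulAut V) x from hfx) k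
  let D : V →* V :=
    { toFun := fun x => r x * x
      map_one' := by simp
      map_mul' := fun x y => by rw [map_mul, mul_assoc, mul_assoc, ← mul_assoc (r y), hcomm (r y) x, mul_assoc] }
  set A := D.range with hAdef
  have hker : D.ker = B := by
    ext x
    rw [MonoidHom.mem_ker, hBdef, mem_fixSub]
    show r x * x = 1 ↔ r x = x
    constructor
    · intro h; rw [eq_inv_of_mul_eq_one_left h, inv_eq_of_mul_eq_one_right (h2 x)]
    · intro h; rw [h, h2]
  have hA : Nat.card A = 4 := by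
    have h := Subgroup.card_mul_index D.ker
    rw [Subgroup.index_ker, hker, hB, h16] at h
    rw [hAdef]; omega
  have hAinv : ∀ σ ∈ Q, ∀ x ∈ A, σ x ∈ A := by
    rintro σ hσ _ ⟨x, rfl⟩
    exact ⟨σ x, by show r (σ x) * σ x = σ (r x * x); rw [map_mul, commute_apply (hQc r hrQ σ hσ)]⟩
  have hinf : A ⊓ B = ⊥ := by
    rw [Subgroup.eq_bot_iff_forall]
    rintro _ ⟨⟨x, rfl⟩, hy⟩
    have hy' : r (r x * x) = r x * x := hy
    rw [map_mul, hcomm (r (r x))] at hy'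
    have hrr : r (r x) = x := mul_left_cancel hy'
    have h4 : r x = x := by
      have e : (r ^ 3) x = x := by rw [h3 r hrQ]; rfl
      have e2 : (r ^ 3) x = r (r (r x)) := rfl
      rw [e2, hrr] at e
      exact e
    show r x * x = 1
    rw [h4, h2]
  have hzQ : ∀ σ ∈ Q, ∀ τ ∈ Subgroup.zpowers σ, τ ∈ Q := fun σ hσ τ hτ =>
    Subgroup.zpowers_le.mpr hσ hτ
  have hfixA : ∀ σ ∈ Q, ∀ x ∈ A, x ≠ 1 → σ x = x → ∀ y ∈ A, σ y = y := fun σ hσ x hx hx1 hfx =>
    fix_of_fix (h3 σ hσ) hA (fun τ hτ => hAinv τ (hzQ σ hσ τ hτ)) hx hx1 hfx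
  have hfixB : ∀ σ ∈ Q, ∀ x ∈ B, x ≠ 1 → σ x = x → ∀ y ∈ B, σ y = y := fun σ hσ x hx hx1 hfx =>
    fix_of_fix (h3 σ hσ) hB (fun τ hτ => hBinv τ (hzQ σ hσ τ hτ)) hx hx1 hfx
  have hprod : ∀ x : V, ∃ u ∈ A, ∃ v ∈ B, x = u * v := by
    intro x
    have hinj : Function.Injective fun z : A × B => (z.1 : V) * z.2 := by
      rintro ⟨u, v⟩ ⟨u', v'⟩ h
      simp only at h
      have h' : (u' : V)⁻¹ * u = v' * (v : V)⁻¹ := by
        rw [eq_mul_inv_iff_mul_eq, mul_assoc, h, inv_mul_cancel_left]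
      have hm : (u' : V)⁻¹ * u ∈ A ⊓ B :=
        Subgroup.mem_inf.mpr ⟨A.mul_mem (A.inv_mem u'.2) u.2, h' ▸ B.mul_mem v'.2 (B.inv_mem v.2)⟩
      rw [hinf, Subgroup.mem_bot] at hm
      have hu : u' = u := Subtype.ext (inv_mul_eq_one.mp hm)
      subst hu
      exact Prod.ext rfl (Subtype.ext (mul_left_cancel h))
    have hbij := (Nat.bijective_iff_injective_and_card _).mpr
      ⟨hinj, by rw [Nat.card_prod, hA, hB, h16]⟩
    obtain ⟨⟨u, v⟩, h⟩ := hbij.2 x
    exact ⟨u, u.2, v, v.2, h.symm⟩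
  obtain ⟨a₀, ha₀, ha₁⟩ : ∃ a₀ ∈ A, a₀ ≠ 1 := by
    apply A.bot_or_exists_ne_one.resolve_left
    intro e; rw [e, Subgroup.card_bot] at hA; omega
  obtain ⟨s, hsQ, hs1, hsa⟩ : ∃ s ∈ Q, s ≠ 1 ∧ s a₀ = a₀ := by
    by_contra hno
    push Not at hno
    have hdiv := dvd_of_free Q ((A : Set V) \ {1}) (fun σ hσ x hx => ⟨hAinv σ hσ x hx.1, ?_⟩)
      (fun σ hσ x hx hfx => by_contra fun hσ1 =>
        hno σ hσ hσ1 (hfixA σ hσ x hx.1 hx.2 hfx a₀ ha₀))
    · rw [hQ, Nat.card_coe_set_eq, Set.ncard_diff_singleton_of_mem (one_mem A),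
        ← Nat.card_coe_set_eq (A : Set V), show Nat.card (A : Set V) = 4 from hA] at hdiv
      omega
    · exact fun h => hx.2 (σ.injective (h.trans (map_one σ).symm))
  have hsA := hfixA s hsQ a₀ ha₀ ha₁ hsa
  refine ⟨A, B, r, hrQ, s, hsQ, hA, hB, hinf, hAinv, hBinv, hfixA, hfixB, fun x hx => hx, hsA,
    fun x hx hx1 h => ?_, fun x hx hx1 h => ?_, hprod⟩
  · exact hx1 (by rw [← Subgroup.mem_bot, ← hinf]; exact ⟨hx, h⟩)
  · refine hs1 (MulEquiv.ext fun z => ?_)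
    obtain ⟨u, hu, v, hv, rfl⟩ := hprod z
    rw [map_mul, hsA u hu, hfixB s hsQ x hx hx1 h v hv]
    rfl

end Cfsg.Agent.BC84.Sixteen
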