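import Cfsg.Agent.ZStar.SectionCount
import Cfsg.Agent.ZStar.Klein
import Cfsg.Agent.Lib.BlocksDefect.PIndexAbelian
import Cfsg.Agent.Lib.Transfer.PClasses
import Cfsg.Agent.BC85.Pairs.Principal

/-!
# The principal block over a normal subgroup of index four with four-group Sylow subgroup
-/

set_option autoImplicit false
set_option linter.unusedSectionVars false

open Cfsg
open scoped ComplexConjugate

namespace Cfsg.Agent.BC84.Sixteen

universe u

section Klein

variable {K : Type u} [Group K] [Finite K] {M : Ideal AlgInt}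

theorem ncard_rank_klein (hM : IsPModular 2 M) (Q : Sylow 2 K) (hQ : IsKleinFour (Q : Subgroup K))
    {β : K} (hβQ : β ∈ (Q : Subgroup K)) (hβ : orderOf β = 2)
    (hone : ∀ s t : K, orderOf s = 2 → orderOf t = 2 → IsConj s t) :
    Nat.card (principalBlock M K) = blockRank 2 (principalBlock M K) + 1 := by
  classical
  haveI : Fact (Nat.Prime 2) := ⟨Nat.prime_two⟩
  obtain ⟨L, hL, hLcard, -⟩ := ZStar.klein_sectionData hQ hβQ hβ
  have hb1 : blockRank 2 (principalBlock M (Subgroup.centralizer ({β} : Set K))) = 1 := by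
    refine ZStar.blockRank_section_eq_one hM hL fun c hc hodd => ?_
    set C := Subgroup.centralizer ({β} : Set K)
    haveI : (L.subgroupOf C).Normal := Subgroup.normal_subgroupOf_of_le_normalizer hL.normal
    have hidx : (L.subgroupOf C).index = 2 ^ 2 := by
      have h := Subgroup.card_mul_index (L.subgroupOf C)
      rw [Nat.card_congr (Subgroup.subgroupOfEquivOfLe hL.le).toEquiv, hLcard, mul_comm 4] at h
      exact Nat.eq_of_mul_eq_mul_left Nat.card_pos h
    exact Subgroup.mem_subgroupOf.mp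
      (BlocksDefect.mem_of_not_dvd_orderOf (N := L.subgroupOf C) hidx (x := ⟨c, hc⟩)
        (by rwa [Subgroup.orderOf_mk]))
  have hβ1 : (1 : K) ≠ β := fun e => by rw [← e, orderOf_one] at hβ; norm_num at hβ
  have h := ZStar.natCard_principal_eq_sum hM ({1, β} : Finset K) (fun x hx => by
    simp only [Finset.mem_insert, Finset.mem_singleton] at hx
    rcases hx with rfl | rfl
    · exact ⟨0, by simp⟩
    · exact ⟨1, by rw [hβ, pow_one]⟩) (fun g ⟨k, hk⟩ => by
    have hg : g = 1 ∨ IsConj g β := by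
      obtain ⟨d, hd⟩ := Transfer.exists_conj_mem_sylow Q hk
      by_cases h1 : g = 1
      · exact Or.inl h1
      · refine Or.inr ((isConj_iff.mpr ⟨d, rfl⟩ : IsConj g (d * g * d⁻¹)).trans (hone _ _ ?_ hβ))
        exact Involution.orderOf_eq_two_iff'.mpr
          ⟨Involution.klein_sq hQ hd, fun e => h1 (conj_eq_one_iff.mp e)⟩
    rcases hg with rfl | hg
    · refine ⟨1, ⟨by simp, IsConj.refl _⟩, fun x ⟨hx, hgx⟩ => ?_⟩
      exact (isConj_one_right.mp hgx : x = 1)
    · refine ⟨β, ⟨by simp, hg⟩, fun x ⟨hx, hgx⟩ => ?_⟩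
      simp only [Finset.mem_insert, Finset.mem_singleton] at hx
      rcases hx with rfl | rfl
      · exact absurd (isConj_one_right.mp (hgx.symm.trans hg)).symm hβ1
      · rfl)
  rwa [Finset.sum_pair hβ1, ZStar.blockRank_centralizer_of_mem_center (one_mem _), hb1] at h

/-- Every element of even order is conjugate to `β` times a commuting element of odd order. -/
theorem exists_singular_form (Q : Sylow 2 K) (hQ : IsKleinFour (Q : Subgroup K)) {β : K}
    (hβ : orderOf β = 2) (hone : ∀ s t : K, orderOf s = 2 → orderOf t = 2 → IsConj s t)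
    {y : K} (hy : 2 ∣ orderOf y) :
    ∃ g w : K, w * β = β * w ∧ ¬ 2 ∣ orderOf w ∧ g * (β * w) * g⁻¹ = y := by
  haveI : Fact (Nat.Prime 2) := ⟨Nat.prime_two⟩
  obtain ⟨hc, hw⟩ := BlocksDefect.regular_inv_pp_mul (p := 2) y
  obtain ⟨-, -, -, ⟨k, hk⟩, -⟩ := BlocksDefect.pp_spec (p := 2) y
  obtain ⟨d, hd⟩ := Transfer.exists_conj_mem_sylow Q hk
  have hne : BlocksDefect.pp 2 y ≠ 1 := fun e => hw (by rw [e, inv_one, one_mul]; exact hy)
  have hz : orderOf (d * BlocksDefect.pp 2 y * d⁻¹) = 2 := Involution.orderOf_eq_two_iff'.mpr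
    ⟨Involution.klein_sq hQ hd, fun e => hne (conj_eq_one_iff.mp e)⟩
  rw [Involution.orderOf_conj] at hz
  obtain ⟨g, hg⟩ := isConj_iff.mp (hone β _ hβ hz)
  refine ⟨g, g⁻¹ * ((BlocksDefect.pp 2 y)⁻¹ * y) * g, ?_, ?_, ?_⟩
  · have h := hc.eq
    set w := (BlocksDefect.pp 2 y)⁻¹ * y
    rw [← hg] at h
    calc g⁻¹ * w * g * β = g⁻¹ * (w * (g * β * g⁻¹)) * g := by group
      _ = g⁻¹ * ((g * β * g⁻¹) * w) * g := by rw [← h]
      _ = β * (g⁻¹ * w * g) := by group
  · have := Involution.orderOf_conj g⁻¹ ((BlocksDefect.pp 2 y)⁻¹ * y)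
    rw [inv_inv] at this
    rwa [this]
  · calc g * (β * (g⁻¹ * ((BlocksDefect.pp 2 y)⁻¹ * y) * g)) * g⁻¹
          = g * β * g⁻¹ * ((BlocksDefect.pp 2 y)⁻¹ * y) := by group
      _ = y := by rw [hg, mul_inv_cancel_left]

end Klein

variable {H : Type u} [Group H] [Finite H] {M : Ideal AlgInt}

/-- The data of the principal block of a group with a normal subgroup of index four whose
Sylow two-subgroup is a four-group with one class of involutions. -/
structure CentData (M : Ideal AlgInt) (K : Subgroup H) [Fintype K] where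
  θ : Fin 4 → IrrCharacter H
  ψ : Fin 4 → IrrCharacter K
  ε : Fin 4 → ℤ
  mem : ∀ i, θ i ∈ principalBlock M H
  res : ∀ i (n : K), (θ i : H → ℂ) n = (ψ i : K → ℂ) n
  orth : ∀ i j, classInner (ψ i : K → ℂ) (ψ j : K → ℂ) = if i = j then 1 else 0
  sign : ∀ i, ε i = 1 ∨ ε i = -1
  singular : ∀ i (y : K), 2 ∣ orderOf y → (ψ i : K → ℂ) y = ε i
  relation : ∀ y : K, ¬ 2 ∣ orderOf y → ∑ i, (ε i : ℂ) * (ψ i : K → ℂ) y = 0
  odd_mem : ∀ x : H, ¬ 2 ∣ orderOf x → x ∈ K
  cover : ∀ η ∈ principalBlock M H, ∃ i, ∀ n : K, (η : H → ℂ) n = (ψ i : K → ℂ) n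
  rank : blockRank 2 (principalBlock M H) = 3

theorem exists_centData (hM : IsPModular 2 M) (T : Sylow 2 H)
    (hT : ∀ x ∈ (T : Subgroup H), ∀ y ∈ (T : Subgroup H), x * y = y * x) (K : Subgroup H)
    [Fintype K] [K.Normal] (hidx : K.index = 4) (Q : Sylow 2 K)
    (hQ : IsKleinFour (Q : Subgroup K)) {β : K} (hβQ : β ∈ (Q : Subgroup K))
    (hβ : orderOf β = 2)
    (hone : ∀ s t : K, orderOf s = 2 → orderOf t = 2 → IsConj s t) :
    Nonempty (CentData M K) := by
  classical
  haveI : Fact (Nat.Prime 2) := ⟨Nat.prime_two⟩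
  haveI := Fintype.ofFinite H
  have := BlocksCore.isPrime hM
  obtain ⟨ζ₂, ζ₃, ζ₄, ε, hε, h2, h3, h23, h24, h34, hB, hval, -, -, -, hrel⟩ :=
    ZStar.klein_principal_block hM Q hQ hone
  have h4 : ζ₄ ≠ BlocksDefect.oneIrr K := fun h => by
    have := (hval β hβ).2.2
    rw [h] at this
    norm_num [BlocksDefect.coe_oneIrr] at this
  have h2' : ζ₂ ≠ BlocksDefect.oneIrr K := fun h => h2 (by rw [h]; rfl)
  have h3' : ζ₃ ≠ BlocksDefect.oneIrr K := fun h => h3 (by rw [h]; rfl)
  set ψ : Fin 4 → IrrCharacter K := ![BlocksDefect.oneIrr K, ζ₂, ζ₃, ζ₄] with hψ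
  set e : Fin 4 → ℤ := ![1, 1, ε, -1] with he
  have hψB : ∀ χ : IrrCharacter K, χ ∈ principalBlock M K ↔ ∃ i, ψ i = χ := by
    intro χ
    rw [hB]
    constructor
    · rintro (h | h | h | h)
      exacts [⟨0, Subtype.ext h.symm⟩, ⟨1, h.symm⟩, ⟨2, h.symm⟩, ⟨3, h.symm⟩]
    · rintro ⟨i, rfl⟩
      fin_cases i
      exacts [Or.inl rfl, Or.inr (Or.inl rfl), Or.inr (Or.inr (Or.inl rfl)),
        Or.inr (Or.inr (Or.inr rfl))]
  have hinj : Function.Injective ψ := by
    intro i j h
    fin_cases i <;> fin_cases j <;> first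
      | rfl
      | exact absurd h h2'
      | exact absurd h.symm h2'
      | exact absurd h h3'
      | exact absurd h.symm h3'
      | exact absurd h h4
      | exact absurd h.symm h4
      | exact absurd h h23
      | exact absurd h.symm h23
      | exact absurd h h24
      | exact absurd h.symm h24
      | exact absurd h h34
      | exact absurd h.symm h34
  have horth : ∀ i j, classInner (ψ i : K → ℂ) (ψ j : K → ℂ) = if i = j then 1 else 0 := by
    intro i j
    by_cases h : i = j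
    · subst h; rw [if_pos rfl]; exact CharCore.classInner_irr_self _
    · rw [if_neg h]; exact CharCore.classInner_irr_of_ne fun h' => h (hinj h')
  obtain ⟨L, hL, hLcard, -⟩ := ZStar.klein_sectionData hQ hβQ hβ
  have hLodd : ∀ w : K, w * β = β * w → ¬ 2 ∣ orderOf w → w ∈ L := by
    intro w hw hodd
    set C := Subgroup.centralizer ({β} : Set K)
    haveI : (L.subgroupOf C).Normal := Subgroup.normal_subgroupOf_of_le_normalizer hL.normal
    have hidx : (L.subgroupOf C).index = 2 ^ 2 := by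
      have h := Subgroup.card_mul_index (L.subgroupOf C)
      rw [Nat.card_congr (Subgroup.subgroupOfEquivOfLe hL.le).toEquiv, hLcard, mul_comm 4] at h
      exact Nat.eq_of_mul_eq_mul_left Nat.card_pos h
    exact Subgroup.mem_subgroupOf.mp
      (BlocksDefect.mem_of_not_dvd_orderOf (N := L.subgroupOf C) hidx
        (x := ⟨w, Subgroup.mem_centralizer_singleton_iff.mpr hw⟩) (by rwa [Subgroup.orderOf_mk]))
  have hsing : ∀ i (y : K), 2 ∣ orderOf y → (ψ i : K → ℂ) y = e i := by
    intro i y hy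
    obtain ⟨g, w, hw, hodd, rfl⟩ := exists_singular_form Q hQ hβ hone hy
    rw [CharCore.irr_isClassFunction (ψ i) (β * w) g,
      ZStar.apply_mul_eq hM hL ((hψB _).mpr ⟨i, rfl⟩) (hLodd w hw hodd)]
    fin_cases i
    · simp [hψ, he, BlocksDefect.coe_oneIrr]
    · simpa [hψ, he] using (hval β hβ).1
    · simpa [hψ, he] using (hval β hβ).2.1
    · simpa [hψ, he] using (hval β hβ).2.2
  have hcard : Nat.card (principalBlock M K) = 4 := by
    have e2 : principalBlock M K = Set.range ψ := Set.ext fun χ => hψB χ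
    rw [e2, Nat.card_range_of_injective hinj, Nat.card_fin]
  have hb : IsPBlock M (principalBlock M K) := BlocksDefect.isPBlock_principal
  have hone' : ∀ g : H, BlocksDefect.conjIrr g (BlocksDefect.oneIrr K) = BlocksDefect.oneIrr K :=
    fun g => Subtype.ext rfl
  have hinv : ∀ g : H, ∀ θ ∈ principalBlock M K,
      BlocksDefect.conjIrr g θ ∈ principalBlock M K := by
    intro g θ hθ
    have h := BlocksDefect.sameBlock_conjIrr (M := M) g
      (BlocksCore.sameBlock_of_mem hb hθ (BlocksDefect.oneIrr_mem (M := M)))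
    rw [hone' g] at h
    rw [BlocksCore.isPBlock_eq_blockOf hb (BlocksDefect.oneIrr_mem (M := M))]
    exact BlocksCore.sameBlock_symm h
  have hcov : ∃ χ ∈ principalBlock M H, ∃ θ ∈ principalBlock M K, BlocksDefect.IsConstituent χ θ :=
    ⟨_, BlocksDefect.oneIrr_mem, _, BlocksDefect.oneIrr_mem,
      by rw [BlocksDefect.IsConstituent,
          show (fun n : K => (BlocksDefect.oneIrr H : H → ℂ) n) = (BlocksDefect.oneIrr K : K → ℂ)
            from rfl, CharCore.classInner_irr_self]
         exact one_ne_zero⟩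
  obtain ⟨-, -, hres, hfib, -, hrank⟩ := BlocksDefect.pIndex_abelian hM ⟨2, hidx⟩ hb hinv
    BlocksDefect.isPBlock_principal hcov
    ((BC85.isDefectGroup_principal_iff hM _).mpr ⟨T, rfl⟩) hT
  have hex : ∀ i, ∃ θ : IrrCharacter H,
      θ ∈ principalBlock M H ∧ ∀ n : K, (θ : H → ℂ) n = (ψ i : K → ℂ) n := by
    intro i
    have h := hfib _ ((hψB _).mpr ⟨i, rfl⟩)
    rw [hidx] at h
    obtain ⟨⟨θ, hθ⟩, -⟩ := Nat.card_pos_iff.mp (h.symm ▸ (by norm_num : 0 < 4))
    exact ⟨θ, hθ⟩
  choose θ hθm hθr using hex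
  refine ⟨{
    θ := θ
    ψ := ψ
    ε := e
    mem := hθm
    res := hθr
    orth := horth
    sign := fun i => by fin_cases i <;> simp [he, hε]
    singular := hsing
    relation := fun y hy => ?_
    odd_mem := fun x hx => BlocksDefect.mem_of_not_dvd_orderOf (show K.index = 2 ^ 2 from hidx) hx
    cover := fun η hη => ?_
    rank := ?_ }⟩
  · have h := hrel y (Nat.not_even_iff_odd.mp fun he => hy (even_iff_two_dvd.mp he))
    simp [Fin.sum_univ_four, hψ, he, BlocksDefect.coe_oneIrr]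
    linear_combination h
  · obtain ⟨φ, hφ, h⟩ := hres η hη
    obtain ⟨i, rfl⟩ := (hψB φ).mp hφ
    exact ⟨i, h⟩
  · have h := ncard_rank_klein hM Q hQ hβQ hβ hone
    rw [hcard] at h
    rw [hrank]
    omega

end Cfsg.Agent.BC84.Sixteen
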