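import Cfsg.Agent.BC84.Sixteen.Local

/-!
# The centralizers of the involutions
-/

set_option autoImplicit false
set_option linter.unusedSectionVars false

open Cfsg
open scoped commutatorElement

namespace Cfsg.Agent.BC84.Sixteen.Rot

variable {G : Type*} [Group G] [Finite G] {P : Sylow 2 G} (R : Rot P)

/-- The centralizer of an element. -/
abbrev cent (x : G) : Subgroup G := Subgroup.centralizer ({x} : Set G)

include R in
theorem le_cent {x : G} (hx : x ∈ (P : Subgroup G)) : (P : Subgroup G) ≤ cent x := fun y hy =>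
  Subgroup.mem_centralizer_singleton_iff.mpr (R.comm y hy x hx)

include R in
theorem card_P : Nat.card (P : Subgroup G) = 16 := by
  have hbij : Function.Bijective fun z : R.A × R.B => (⟨(z.1 : G) * z.2,
      mul_mem (R.le_A z.1.2) (R.le_B z.2.2)⟩ : (P : Subgroup G)) := by
    refine ⟨fun z z' hz => ?_, fun x => ?_⟩
    · obtain ⟨h1, h2⟩ := R.unique z.1.2 z'.1.2 z.2.2 z'.2.2 (congrArg Subtype.val hz)
      exact Prod.ext (Subtype.ext h1) (Subtype.ext h2)
    · obtain ⟨u, hu, v, hv, he⟩ := R.prod x x.2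
      exact ⟨⟨⟨u, hu⟩, ⟨v, hv⟩⟩, Subtype.ext he.symm⟩
  rw [← Nat.card_eq_of_bijective _ hbij, Nat.card_prod, R.card_A, R.card_B]

include R in
theorem normalizer_of_local {x : G} (hx : x ∈ (P : Subgroup G)) {n : cent x}
    (hn : n ∈ Subgroup.normalizer (((P.subtype (R.le_cent hx) : Sylow 2 (cent x)) :
      Subgroup (cent x)) : Set (cent x))) :
    (n : G) ∈ Subgroup.normalizer ((P : Subgroup G) : Set G) ∧ (n : G) * x * (n : G)⁻¹ = x := by
  refine ⟨Subgroup.mem_normalizer_iff.mpr fun y => ⟨fun hy => ?_, fun hy => ?_⟩,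
    mul_inv_eq_iff_eq_mul.mpr (Subgroup.mem_centralizer_singleton_iff.mp n.2)⟩
  · have h := (Subgroup.mem_normalizer_iff.mp hn ⟨y, R.le_cent hx hy⟩).mp hy
    exact h
  · have hc : y ∈ cent x := by
      have h1 := mul_mem (mul_mem (inv_mem n.2) (R.le_cent hx hy)) n.2
      rwa [show (n : G)⁻¹ * ((n : G) * y * (n : G)⁻¹) * n = y by group] at h1
    exact (Subgroup.mem_normalizer_iff.mp hn ⟨y, hc⟩).mpr hy

/-- The centralizer of `c` has a normal two-complement. -/
theorem complement_c : HasNormalPComplement 2 (cent R.c) := by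
  haveI : Fact (Nat.Prime 2) := ⟨Nat.prime_two⟩
  set T : Sylow 2 (cent R.c) := P.subtype (R.le_cent R.mem_c) with hT
  have hab : IsMulCommutative T := ⟨⟨fun u v => Subtype.ext (Subtype.ext (R.comm _ u.2 _ v.2))⟩⟩
  refine Transfer.hasNormalPComplement_of_control T fun x hx y hy hxy => ⟨1, one_mem _, ?_⟩
  obtain ⟨g, rfl⟩ := hxy
  obtain ⟨n, hn, e⟩ := Transfer.conj_normalizer_of_abelian T hab hx hy
  obtain ⟨hnN, hnc⟩ := R.normalizer_of_local R.mem_c hn
  have ha := R.norm_A _ hnN R.a R.mem_a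
  have hb := R.norm_B _ hnN R.b R.mem_b
  have hu := R.unique ha R.mem_a hb R.mem_b (by rw [conj_mul]; exact hnc)
  have hfix := R.fix_all hnN (R.fix_A _ hnN _ R.mem_a R.ne_a hu.1)
    (R.fix_B _ hnN _ R.mem_b R.ne_b hu.2) (x := (x : G)) hx
  rw [← e, one_mul, inv_one, mul_one]
  exact (Subtype.ext hfix).symm

theorem exists_sectionData_c :
    ∃ K : Subgroup G, ZStar.SectionData 2 R.c K ∧ Nat.card (cent R.c) = 16 * Nat.card K ∧
      ∀ g ∈ cent R.c, ¬ 2 ∣ orderOf g → g ∈ K := by
  haveI : Fact (Nat.Prime 2) := ⟨Nat.prime_two⟩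
  obtain ⟨T, K, hK, hc⟩ := R.complement_c
  refine ⟨K.map (cent R.c).subtype,
    ⟨⟨1, by rw [R.orderOf_two R.mem_c R.c_ne_one, pow_one]⟩, Subgroup.map_subtype_le _,
      fun g hg => ?_, ?_⟩, ?_, fun g hg hodd => ⟨⟨g, hg⟩, ?_, rfl⟩⟩
  · rw [Subgroup.mem_normalizer_iff]
    intro u
    constructor
    · rintro ⟨y, hy, rfl⟩
      exact ⟨⟨g, hg⟩ * y * ⟨g, hg⟩⁻¹, hK.conj_mem y hy _, by simp⟩
    · rintro ⟨y, hy, hye⟩
      refine ⟨⟨g, hg⟩⁻¹ * y * ⟨g, hg⟩, by simpa using hK.conj_mem y hy ⟨g, hg⟩⁻¹, ?_⟩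
      simp only [Subgroup.coe_subtype, Subgroup.coe_mul, InvMemClass.coe_inv] at hye ⊢
      rw [hye]; group
  · rw [Subgroup.card_map_of_injective (Subgroup.subtype_injective _), ← hc.index_eq_card]
    exact T.not_dvd_index
  · rw [Subgroup.card_map_of_injective (Subgroup.subtype_injective _), ← hc.card_mul,
      T.card_eq_multiplicity, ← (P.subtype (R.le_cent R.mem_c)).card_eq_multiplicity,
      ← R.card_P, mul_comm (Nat.card K)]
    exact congrArg (· * Nat.card K)
      (Nat.card_congr (Subgroup.subgroupOfEquivOfLe (R.le_cent R.mem_c)).toEquiv)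
  · haveI := hK
    have hidx : ∃ n, K.index = 2 ^ n := by
      obtain ⟨n, hn⟩ := IsPGroup.iff_card.mp T.2
      exact ⟨n, by rw [hc.symm.index_eq_card, hn]⟩
    obtain ⟨n, hn⟩ := hidx
    exact BlocksDefect.mem_of_not_dvd_orderOf hn (by rwa [Subgroup.orderOf_mk])

/-- The residual of the centralizer of `a`: a normal subgroup of index four with four-group
Sylow subgroup and one class of involutions. -/
theorem exists_residual_a :
    ∃ K : Subgroup (cent R.a), K.Normal ∧ K.index = 4 ∧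
      ∃ (Q : Sylow 2 K) (β : K), IsKleinFour (Q : Subgroup K) ∧ β ∈ (Q : Subgroup K) ∧
        orderOf β = 2 ∧ (((β : cent R.a) : G) = R.b) ∧
        ∀ s t : K, orderOf s = 2 → orderOf t = 2 → IsConj s t := by
  classical
  haveI : Fact (Nat.Prime 2) := ⟨Nat.prime_two⟩
  set C := cent R.a with hC
  set T : Sylow 2 C := P.subtype (R.le_cent R.mem_aP) with hT
  have hab : IsMulCommutative T := ⟨⟨fun u v => Subtype.ext (Subtype.ext (R.comm _ u.2 _ v.2))⟩⟩
  set K : Subgroup C := pResidual 2 C with hK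
  have hfocal : (T : Subgroup C) ⊓ K = R.B.subgroupOf C := by
    rw [hK, Transfer.sylow_inf_pResidual_eq_focalSubgroup_of_abelian T hab,
      Transfer.focalSubgroup_eq_commutator_normalizer_of_abelian T hab]
    refine le_antisymm ?_ ?_
    · rw [Subgroup.commutator_le]
      intro t ht n hn
      obtain ⟨hnN, hna⟩ := R.normalizer_of_local R.mem_aP hn
      have htP : (t : G) ∈ (P : Subgroup G) := ht
      obtain ⟨u, hu, v, hv, he⟩ := R.prod (t : G) htP
      rw [Subgroup.mem_subgroupOf, commutatorElement_def]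
      simp only [Subgroup.coe_mul, InvMemClass.coe_inv]
      rw [inv_eq_of_mul_eq_one_right (R.sq _ htP), mul_assoc ((t : G)) (n : G),
        mul_assoc (t : G) ((n : G) * t), he, ← conj_mul,
        R.fix_A _ hnN _ R.mem_a R.ne_a hna u hu, R.comm u (R.le_A hu) v (R.le_B hv), mul_assoc,
        ← mul_assoc u u, R.sq u (R.le_A hu), one_mul]
      exact R.B.mul_mem hv (R.norm_B _ hnN v hv)
    · intro w hw
      have hw' : (w : G) ∈ R.B := hw
      have hinj : Function.Injective fun v : R.B =>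
          (⟨(v : G) * (R.s * v * R.s⁻¹), R.B.mul_mem v.2 (R.norm_B _ R.norm_s v v.2)⟩ : R.B) := by
        intro v v' h
        have h' : (v : G) * (R.s * v * R.s⁻¹) = v' * (R.s * v' * R.s⁻¹) := congrArg Subtype.val h
        by_contra hne
        refine R.s_B ((v : G) * v') (R.B.mul_mem v.2 v'.2) (fun e => hne (Subtype.ext ?_)) ?_
        · rw [eq_inv_of_mul_eq_one_left e, inv_eq_of_mul_eq_one_right (R.sq _ (R.le_B v'.2))]
        · rw [← conj_mul]
          have hc := R.comm _ (R.le_B v.2) _ (R.le_B v'.2)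
          have h1 := congrArg (fun z => (v : G) * z * (R.s * v' * R.s⁻¹)) h'
          rw [show (v : G) * ((v : G) * (R.s * v * R.s⁻¹)) * (R.s * v' * R.s⁻¹) =
            ((v : G) * v) * ((R.s * v * R.s⁻¹) * (R.s * v' * R.s⁻¹)) by group,
            R.sq _ (R.le_B v.2), one_mul] at h1
          rw [h1, show (v : G) * ((v' : G) * (R.s * v' * R.s⁻¹)) * (R.s * v' * R.s⁻¹) =
            (v : G) * v' * ((R.s * v' * R.s⁻¹) * (R.s * v' * R.s⁻¹)) by group,
            R.sq _ (R.le_B (R.norm_B _ R.norm_s _ v'.2)), mul_one]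
      obtain ⟨v, hv⟩ := Finite.surjective_of_injective hinj ⟨w, hw'⟩
      have hv' : (v : G) * (R.s * v * R.s⁻¹) = w := congrArg Subtype.val hv
      have hsC : R.s ∈ C :=
        Subgroup.mem_centralizer_singleton_iff.mpr (mul_inv_eq_iff_eq_mul.mp (R.s_A _ R.mem_a))
      have hsN : (⟨R.s, hsC⟩ : C) ∈ Subgroup.normalizer ((T : Subgroup C) : Set C) :=
        Subgroup.mem_normalizer_iff.mpr fun y => Subgroup.mem_normalizer_iff.mp R.norm_s (y : G)
      have hvT : (⟨(v : G), R.le_cent R.mem_aP (R.le_B v.2)⟩ : C) ∈ (T : Subgroup C) := R.le_B v.2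
      have e : w = ⁅(⟨(v : G), R.le_cent R.mem_aP (R.le_B v.2)⟩ : C), (⟨R.s, hsC⟩ : C)⁆ := by
        refine Subtype.ext ?_
        rw [commutatorElement_def]
        simp only [Subgroup.coe_mul, InvMemClass.coe_inv]
        rw [← hv', inv_eq_of_mul_eq_one_right (R.sq _ (R.le_B v.2))]
        group
      rw [e]
      exact Subgroup.commutator_mem_commutator hvT hsN
  have hBC : R.B ≤ C := fun y hy => R.le_cent R.mem_aP (R.le_B hy)
  have hcB : Nat.card ((T : Subgroup C) ⊓ K : Subgroup C) = 4 := by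
    rw [hfocal, Nat.card_congr (Subgroup.subgroupOfEquivOfLe hBC).toEquiv, R.card_B]
  have hcT : Nat.card (T : Subgroup C) = 16 := by
    rw [← R.card_P]
    exact Nat.card_congr (Subgroup.subgroupOfEquivOfLe (R.le_cent R.mem_aP)).toEquiv
  haveI hKn : K.Normal := Transfer.pResidual_normal
  have htop := Transfer.sylow_sup_pResidual_eq_top T
  have hidx : K.index = 4 := by
    have h := Subgroup.card_mul_index (K.subgroupOf (T : Subgroup C))
    have e1 : Nat.card (K.subgroupOf (T : Subgroup C)) = 4 := by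
      rw [← Subgroup.card_map_of_injective (Subgroup.subtype_injective (T : Subgroup C)),
        Subgroup.subgroupOf_map_subtype, inf_comm, hcB]
    have e2 : (K.subgroupOf (T : Subgroup C)).index = K.index := by
      show K.relIndex (T : Subgroup C) = _
      rw [← Subgroup.relIndex_sup_right, show (T : Subgroup C) ⊔ K = ⊤ from htop,
        Subgroup.relIndex_top_right]
    rw [e1, e2, hcT] at h
    omega
  obtain ⟨Q, hQ⟩ := Transfer.exists_sylow_subgroupOf_normal T K
  have hbC : R.b ∈ C := hBC R.mem_b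
  have hbm : (⟨R.b, hbC⟩ : C) ∈ (T : Subgroup C) ⊓ K := by rw [hfocal]; exact R.mem_b
  have hbK : (⟨R.b, hbC⟩ : C) ∈ K := (Subgroup.mem_inf.mp hbm).2
  have hQB : ∀ y : K, y ∈ (Q : Subgroup K) ↔ (((y : C) : G)) ∈ R.B := fun y => by
    rw [hQ]
    constructor
    · intro hy
      have : (y : C) ∈ (T : Subgroup C) ⊓ K := Subgroup.mem_inf.mpr ⟨hy, y.2⟩
      rw [hfocal] at this
      exact this
    · intro hy
      have : (y : C) ∈ (T : Subgroup C) ⊓ K := by rw [hfocal]; exact hy
      exact (Subgroup.mem_inf.mp this).1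
  have hQ4 : Nat.card (Q : Subgroup K) = 4 := by
    rw [hQ, ← Subgroup.card_map_of_injective (Subgroup.subtype_injective K),
      Subgroup.subgroupOf_map_subtype, hcB]
  have hQsq : ∀ y : (Q : Subgroup K), y ^ 2 = 1 := fun y => Subtype.ext (Subtype.ext (Subtype.ext (by
    have := R.sq _ (R.le_B ((hQB y).mp y.2))
    simpa [pow_two] using this)))
  set β : K := ⟨⟨R.b, hbC⟩, hbK⟩ with hβ
  have hβ2 : orderOf β = 2 := by
    rw [← Subgroup.orderOf_coe, ← Subgroup.orderOf_coe, hβ]
    exact R.orderOf_two (R.le_B R.mem_b) R.ne_b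
  have hβQ : β ∈ (Q : Subgroup K) := (hQB β).mpr R.mem_b
  have hQK : IsKleinFour (Q : Subgroup K) := by
    refine ⟨hQ4, ?_⟩
    rcases (Nat.dvd_prime Nat.prime_two).mp (Monoid.exponent_dvd_of_forall_pow_eq_one hQsq) with h | h
    · exfalso
      haveI := Monoid.exp_eq_one_iff.mp h
      have := congrArg Subtype.val (Subsingleton.elim (⟨β, hβQ⟩ : (Q : Subgroup K)) 1)
      have h2 := hβ2
      rw [show β = 1 from this, orderOf_one] at h2
      norm_num at h2
    · exact h
  -- a rotation inside the residual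
  have hsC : R.s ∈ C :=
    Subgroup.mem_centralizer_singleton_iff.mpr (mul_inv_eq_iff_eq_mul.mp (R.s_A _ R.mem_a))
  obtain ⟨t, ht, k, hk, htk⟩ := Subgroup.mem_sup_of_normal_right.mp
    (htop.ge (Subgroup.mem_top (⟨R.s, hsC⟩ : C)))
  have hks : ∀ y ∈ (P : Subgroup G), (k : G) * y * (k : G)⁻¹ = R.s * y * R.s⁻¹ := by
    intro y hy
    have hke : (k : G) = (t : G)⁻¹ * R.s := by
      have := congrArg Subtype.val htk
      simp only [Subgroup.coe_mul] at this
      rw [← this, inv_mul_cancel_left]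
    have hm := (Subgroup.mem_normalizer_iff.mp R.norm_s y).mp hy
    rw [hke, show (t : G)⁻¹ * R.s * y * ((t : G)⁻¹ * R.s)⁻¹ = (t : G)⁻¹ * (R.s * y * R.s⁻¹) * t by group,
      mul_assoc, R.comm _ hm _ (show (t : G) ∈ (P : Subgroup G) from ht), inv_mul_cancel_left]
  have hkN : (k : G) ∈ Subgroup.normalizer ((P : Subgroup G) : Set G) := by
    refine Subgroup.mem_normalizer_iff.mpr fun y => ⟨fun hy => by
      rw [hks y hy]; exact (Subgroup.mem_normalizer_iff.mp R.norm_s y).mp hy, fun hy => ?_⟩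
    obtain ⟨z, hz, hze⟩ : ∃ z ∈ (P : Subgroup G), R.s * z * R.s⁻¹ = (k : G) * y * (k : G)⁻¹ :=
      ⟨R.s⁻¹ * ((k : G) * y * (k : G)⁻¹) * R.s,
        (Subgroup.mem_normalizer_iff.mp R.norm_s _).mpr (by group; simpa [mul_assoc] using hy),
        by group⟩
    rw [← hks z hz] at hze
    exact mul_left_cancel (mul_right_cancel hze) ▸ hz
  let R' : Rot P :=
    { R with
      s := k
      norm_s := hkN
      s_A := fun x hx => by rw [hks x (R.le_A hx)]; exact R.s_A x hx
      s_B := fun x hx h1 h => R.s_B x hx h1 (by rw [← hks x (R.le_B hx)]; exact h) }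
  have htrans : ∀ y : K, y ∈ (Q : Subgroup K) → y ≠ 1 → IsConj β y := by
    intro y hy hy1
    obtain ⟨g, hg, hgy, -⟩ := R'.swap.rot_a ((hQB y).mp hy)
      (fun e => hy1 (Subtype.ext (Subtype.ext e)))
    obtain ⟨i, rfl⟩ := Subgroup.mem_zpowers_iff.mp hg
    refine isConj_iff.mpr ⟨⟨k ^ i, K.zpow_mem hk i⟩, Subtype.ext (Subtype.ext ?_)⟩
    simp only [Subgroup.coe_mul, InvMemClass.coe_inv, SubgroupClass.coe_zpow]
    exact hgy
  refine ⟨K, hKn, hidx, Q, β, hQK, hβQ, hβ2, rfl, ?_⟩
  have hall : ∀ u : K, orderOf u = 2 → IsConj β u := by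
    intro u hu
    obtain ⟨d, hd⟩ := Transfer.exists_conj_mem_sylow Q (k := 1) (by rw [hu, pow_one])
    have hne : d * u * d⁻¹ ≠ 1 := fun e => by
      rw [conj_eq_one_iff] at e
      rw [e, orderOf_one] at hu
      norm_num at hu
    exact (htrans _ hd hne).trans (isConj_iff.mpr ⟨d, rfl⟩).symm
  exact fun u v hu hv => (hall u hu).symm.trans (hall v hv)

end Cfsg.Agent.BC84.Sixteen.Rot
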