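import Mathlib.Algebra.BigOperators.Fin
import Mathlib.Algebra.Order.Chebyshev
import Mathlib.Data.ZMod.Basic
import Mathlib.Tactic.FinCases
import Mathlib.Tactic.IntervalCases
import Mathlib.Tactic.LinearCombination
import Mathlib.Tactic.NormNum
import Mathlib.Tactic.Linarith
import Mathlib.Tactic.Ring

/-!
# The arithmetic of a block with three subsections of ranks `3, 3, 1`

Two `k × 4` integer matrices with orthogonal columns of norm `4`, equal row sums `d ≠ 0`, cross
products `1`, and whose combined projection fixes no unit vector, have `8` or `16` rows.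
-/

set_option autoImplicit false

namespace Cfsg.Agent.BC84.Sixteen

variable {ι : Type*}

/-- The row sum. -/
def rsum (m : ι → Fin 4 → ℤ) (r : ι) : ℤ := ∑ i, m r i

/-- The squared norm of a row. -/
def rnorm (m : ι → Fin 4 → ℤ) (r : ι) : ℤ := ∑ i, m r i ^ 2

theorem rsum_sq_le (m : ι → Fin 4 → ℤ) (r : ι) : rsum m r ^ 2 ≤ 4 * rnorm m r := by
  have h := sq_sum_le_card_mul_sum_sq (s := (Finset.univ : Finset (Fin 4))) (f := fun i => m r i)
  simpa [rsum, rnorm] using h

theorem rnorm_sub_rsum_even (m : ι → Fin 4 → ℤ) (r : ι) : Even (rnorm m r - rsum m r) := by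
  rw [rnorm, rsum, ← Finset.sum_sub_distrib]
  have h : ∀ i, Even (m r i ^ 2 - m r i) := fun i => by
    rw [show m r i ^ 2 - m r i = (m r i - 1) * (m r i - 1 + 1) by ring]
    exact Int.even_mul_succ_self _
  exact Finset.even_sum _ fun i _ => h i

theorem entry_cases {m : ι → Fin 4 → ℤ} {r : ι} (h : rnorm m r ≤ 3) (i : Fin 4) :
    m r i = 0 ∨ m r i = 1 ∨ m r i = -1 := by
  have h1 : m r i ^ 2 ≤ 3 :=
    le_trans (Finset.single_le_sum (fun j _ => sq_nonneg (m r j)) (Finset.mem_univ i)) h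
  have h2 : -1 ≤ m r i := by nlinarith
  have h3 : m r i ≤ 1 := by nlinarith
  omega

/-- The six ordered pairs of columns. -/
def pairList : List (Fin 4 × Fin 4) := [(0, 1), (0, 2), (0, 3), (1, 2), (1, 3), (2, 3)]

theorem not_even_cover_one : ∀ p ∈ pairList, ∀ t : Fin 4, ∃ q ∈ pairList,
    ((if p = q then 1 else 0) + (if t ≠ q.1 ∧ t ≠ q.2 then 1 else 0)) % 2 = 1 := by
  decide

theorem even_cover_two : ∀ p ∈ pairList, ∀ p' ∈ pairList, ∀ t t' : Fin 4,
    (∀ q ∈ pairList, ((if p = q then 1 else 0) + (if p' = q then 1 else 0) +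
      (if t ≠ q.1 ∧ t ≠ q.2 then 1 else 0) + (if t' ≠ q.1 ∧ t' ≠ q.2 then 1 else 0)) % 2 = 0) →
    p = p' := by
  decide

theorem ne_of_mem_pairList : ∀ q ∈ pairList, q.1 ≠ q.2 := by decide

/-- A row of norm two is supported on a pair of columns. -/
theorem exists_pair {m : ι → Fin 4 → ℤ} {r : ι} (h : rnorm m r = 2) :
    ∃ p ∈ pairList, (∀ i, m r i ≠ 0 ↔ i = p.1 ∨ i = p.2) := by
  have e : ∀ i, m r i ^ 2 = if m r i ≠ 0 then 1 else 0 := fun i => by
    rcases entry_cases (by omega : rnorm m r ≤ 3) i with h | h | h <;> rw [h] <;> norm_num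
  rw [rnorm, Fin.sum_univ_four, e, e, e, e] at h
  by_cases h0 : m r 0 = 0 <;> by_cases h1 : m r 1 = 0 <;> by_cases h2 : m r 2 = 0 <;>
    by_cases h3 : m r 3 = 0 <;> simp [h0, h1, h2, h3] at h
  all_goals first
    | (refine ⟨(0, 1), by decide, fun i => ?_⟩; fin_cases i <;> simp_all; done)
    | (refine ⟨(0, 2), by decide, fun i => ?_⟩; fin_cases i <;> simp_all; done)
    | (refine ⟨(0, 3), by decide, fun i => ?_⟩; fin_cases i <;> simp_all; done)
    | (refine ⟨(1, 2), by decide, fun i => ?_⟩; fin_cases i <;> simp_all; done)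
    | (refine ⟨(1, 3), by decide, fun i => ?_⟩; fin_cases i <;> simp_all; done)
    | (refine ⟨(2, 3), by decide, fun i => ?_⟩; fin_cases i <;> simp_all; done)

/-- A row of norm three misses one column. -/
theorem exists_missing {m : ι → Fin 4 → ℤ} {r : ι} (h : rnorm m r = 3) :
    ∃ t : Fin 4, ∀ i, m r i ≠ 0 ↔ t ≠ i := by
  have e : ∀ i, m r i ^ 2 = if m r i ≠ 0 then 1 else 0 := fun i => by
    rcases entry_cases (by omega : rnorm m r ≤ 3) i with h | h | h <;> rw [h] <;> norm_num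
  rw [rnorm, Fin.sum_univ_four, e, e, e, e] at h
  by_cases h0 : m r 0 = 0 <;> by_cases h1 : m r 1 = 0 <;> by_cases h2 : m r 2 = 0 <;>
    by_cases h3 : m r 3 = 0 <;> simp [h0, h1, h2, h3] at h
  all_goals first
    | (refine ⟨0, fun i => ?_⟩; fin_cases i <;> simp_all; done)
    | (refine ⟨1, fun i => ?_⟩; fin_cases i <;> simp_all; done)
    | (refine ⟨2, fun i => ?_⟩; fin_cases i <;> simp_all; done)
    | (refine ⟨3, fun i => ?_⟩; fin_cases i <;> simp_all; done)

theorem pair_indicator {m : ι → Fin 4 → ℤ} {r : ι} {p : Fin 4 × Fin 4} (hp : p ∈ pairList)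
    (hs : ∀ i, m r i ≠ 0 ↔ i = p.1 ∨ i = p.2) {q : Fin 4 × Fin 4} (hq : q ∈ pairList) :
    (m r q.1 ≠ 0 ∧ m r q.2 ≠ 0) ↔ p = q := by
  rw [hs, hs]
  simp only [pairList, List.mem_cons, List.not_mem_nil, or_false] at hp hq
  rcases hp with rfl | rfl | rfl | rfl | rfl | rfl <;>
    rcases hq with rfl | rfl | rfl | rfl | rfl | rfl <;> decide

section Main

variable [Fintype ι] (m n : ι → Fin 4 → ℤ)

/-- With few exceptional rows the two special rows of norm two have the same support. -/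
theorem pairs_eq (hmm : ∀ i j, ∑ r, m r i * m r j = if i = j then 4 else 0)
    {P X : Finset ι} (hP : ∀ r ∈ P, rnorm m r = 2) (hX : ∀ r ∈ X, rnorm m r = 3)
    (hdisj : Disjoint P X) (hrest : ∀ r, r ∉ P → r ∉ X → rnorm m r = 1)
    (hPc : P.card = X.card) (hP1 : 1 ≤ P.card) (hP2 : P.card ≤ 2) :
    P.card = 2 ∧ ∀ r ∈ P, ∀ s ∈ P, ∀ i, m r i ≠ 0 ↔ m s i ≠ 0 := by
  classical
  have hsmall : ∀ r, rnorm m r ≤ 3 := fun r => by
    by_cases h1 : r ∈ P
    · rw [hP r h1]; norm_num
    · by_cases h2 : r ∈ X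
      · rw [hX r h2]
      · rw [hrest r h1 h2]; norm_num
  have hzero : ∀ r, r ∉ P → r ∉ X → ∀ q ∈ pairList, m r q.1 * m r q.2 = 0 := by
    intro r h1 h2 q hq
    by_contra hne
    obtain ⟨ha, hb⟩ := mul_ne_zero_iff.mp hne
    have hs : m r q.1 ^ 2 + m r q.2 ^ 2 ≤ rnorm m r := by
      rw [← Finset.sum_pair (ne_of_mem_pairList q hq) (f := fun i => m r i ^ 2)]
      exact Finset.sum_le_sum_of_subset_of_nonneg (Finset.subset_univ _)
        fun j _ _ => sq_nonneg _
    rw [hrest r h1 h2] at hs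
    have e1 : 1 ≤ m r q.1 ^ 2 := Int.one_le_abs (pow_ne_zero 2 ha) |>.trans (le_of_eq (abs_sq _))
    have e2 : 1 ≤ m r q.2 ^ 2 := Int.one_le_abs (pow_ne_zero 2 hb) |>.trans (le_of_eq (abs_sq _))
    omega
  have hpar : ∀ q ∈ pairList,
      (∑ r ∈ P, (if m r q.1 ≠ 0 ∧ m r q.2 ≠ 0 then 1 else 0) +
        ∑ r ∈ X, (if m r q.1 ≠ 0 ∧ m r q.2 ≠ 0 then 1 else 0) : ℕ) % 2 = 0 := by
    intro q hq
    have h0 := hmm q.1 q.2
    rw [if_neg (ne_of_mem_pairList q hq), ← Finset.sum_subset (Finset.subset_univ (P ∪ X))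
      (fun r _ hr => hzero r (fun h => hr (Finset.mem_union_left _ h))
        (fun h => hr (Finset.mem_union_right _ h)) q hq)] at h0
    have hz : ((∑ r ∈ P ∪ X, (if m r q.1 ≠ 0 ∧ m r q.2 ≠ 0 then 1 else 0) : ℕ) : ZMod 2) = 0 := by
      push_cast
      have h1 : ((∑ r ∈ P ∪ X, m r q.1 * m r q.2 : ℤ) : ZMod 2) = 0 := by rw [h0, Int.cast_zero]
      refine Eq.trans ?_ h1
      rw [Int.cast_sum]
      refine Finset.sum_congr rfl fun r _ => ?_
      rcases entry_cases (hsmall r) q.1 with e1 | e1 | e1 <;>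
        rcases entry_cases (hsmall r) q.2 with e2 | e2 | e2 <;> simp [e1, e2] <;> decide
    rw [ZMod.natCast_eq_zero_iff_even, Finset.sum_union hdisj] at hz
    exact Nat.even_iff.mp hz
  have hcov : ∀ r t, (∀ i, m r i ≠ 0 ↔ t ≠ i) → ∀ q : Fin 4 × Fin 4,
      (if m r q.1 ≠ 0 ∧ m r q.2 ≠ 0 then 1 else 0 : ℕ) = if t ≠ q.1 ∧ t ≠ q.2 then 1 else 0 :=
    fun r t h q => if_congr (and_congr (h _) (h _)) rfl rfl
  have hcov2 : ∀ r p, p ∈ pairList → (∀ i, m r i ≠ 0 ↔ i = p.1 ∨ i = p.2) → ∀ q ∈ pairList,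
      (if m r q.1 ≠ 0 ∧ m r q.2 ≠ 0 then 1 else 0 : ℕ) = if p = q then 1 else 0 :=
    fun r p hp h q hq => if_congr (pair_indicator hp h hq) rfl rfl
  rcases (show P.card = 1 ∨ P.card = 2 by omega) with h1 | h2
  · exfalso
    obtain ⟨r, rfl⟩ := Finset.card_eq_one.mp h1
    obtain ⟨s, rfl⟩ := Finset.card_eq_one.mp (hPc ▸ h1)
    obtain ⟨p, hp, hps⟩ := exists_pair (hP r (Finset.mem_singleton_self r))
    obtain ⟨t, ht⟩ := exists_missing (hX s (Finset.mem_singleton_self s))
    obtain ⟨q, hq, hodd⟩ := not_even_cover_one p hp t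
    have := hpar q hq
    rw [Finset.sum_singleton, Finset.sum_singleton, hcov2 r p hp hps q hq, hcov s t ht q] at this
    omega
  · refine ⟨h2, ?_⟩
    obtain ⟨r, r', hrr, rfl⟩ := Finset.card_eq_two.mp h2
    obtain ⟨s, s', hss, rfl⟩ := Finset.card_eq_two.mp (hPc ▸ h2)
    obtain ⟨p, hp, hps⟩ := exists_pair (hP r (by simp))
    obtain ⟨p', hp', hps'⟩ := exists_pair (hP r' (by simp))
    obtain ⟨t, ht⟩ := exists_missing (hX s (by simp))
    obtain ⟨t', ht'⟩ := exists_missing (hX s' (by simp))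
    have heq : p = p' := by
      refine even_cover_two p hp p' hp' t t' fun q hq => ?_
      have := hpar q hq
      rw [Finset.sum_pair hrr, Finset.sum_pair hss, hcov2 r p hp hps q hq,
        hcov2 r' p' hp' hps' q hq, hcov s t ht q, hcov s' t' ht' q] at this
      omega
    have key : ∀ i, m r i ≠ 0 ↔ m r' i ≠ 0 := fun i => by rw [hps, hps', heq]
    intro a ha b hb i
    simp only [Finset.mem_insert, Finset.mem_singleton] at ha hb
    rcases ha with rfl | rfl <;> rcases hb with rfl | rfl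
    · rfl
    · exact key i
    · exact (key i).symm
    · rfl

/-- Brauer's arithmetic: the number of characters is `8` or `16`. -/
theorem card_eq (hmm : ∀ i j, ∑ r, m r i * m r j = if i = j then 4 else 0)
    (hnn : ∀ i j, ∑ r, n r i * n r j = if i = j then 4 else 0)
    (hd : ∀ r, rsum m r = rsum n r) (hd0 : ∀ r, rsum m r ≠ 0)
    (hone : ∀ r, 4 * (rnorm m r + rnorm n r) - rsum m r ^ 2 < 16)
    (htwo : ∀ r s, r ≠ s → ∀ e f : ℤ,
      4 * (∑ i, (e * m r i + f * m s i) ^ 2 + ∑ i, (e * n r i + f * n s i) ^ 2) -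
        (e * rsum m r + f * rsum m s) ^ 2 ≤ 16 * (e ^ 2 + f ^ 2)) :
    Fintype.card ι = 8 ∨ Fintype.card ι = 16 := by
  classical
  have hrow : ∀ r,
      (rsum m r ^ 2 = 9 ∧ rnorm m r = 3 ∧ rnorm n r = 3) ∨
      (rsum m r ^ 2 = 4 ∧ rnorm m r = 2 ∧ rnorm n r = 2) ∨
      (rsum m r ^ 2 = 1 ∧ rnorm m r = 3 ∧ rnorm n r = 1) ∨
      (rsum m r ^ 2 = 1 ∧ rnorm m r = 1 ∧ rnorm n r = 3) ∨
      (rsum m r ^ 2 = 1 ∧ rnorm m r = 1 ∧ rnorm n r = 1) := by
    intro r
    have h1 := rsum_sq_le m r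
    have h2 := rsum_sq_le n r
    rw [← hd r] at h2
    have h3 := hone r
    obtain ⟨u, hu⟩ := rnorm_sub_rsum_even m r
    obtain ⟨v, hv⟩ := rnorm_sub_rsum_even n r
    rw [← hd r] at hv
    have h4 := hd0 r
    have h5 : -3 ≤ rsum m r := by nlinarith
    have h6 : rsum m r ≤ 3 := by nlinarith
    generalize rsum m r = d at *
    generalize rnorm m r = a at *
    generalize rnorm n r = b at *
    interval_cases d <;> omega
  have hcol : ∑ r, rsum m r ^ 2 = 16 := by
    have e : ∀ r, rsum m r ^ 2 = ∑ i, ∑ j, m r i * m r j := fun r => by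
      rw [rsum, sq, Finset.sum_mul_sum]
    rw [Finset.sum_congr rfl fun r _ => e r, Finset.sum_comm,
      Finset.sum_congr rfl fun i _ => Finset.sum_comm]
    simp [hmm]
  have hA : ∀ f : ι → Fin 4 → ℤ, (∀ i j, ∑ r, f r i * f r j = if i = j then 4 else 0) →
      ∑ r, rnorm f r = 16 := fun f hf => by
    simp only [rnorm, sq]
    rw [Finset.sum_comm]
    simp [hf]
  set T := Finset.univ.filter fun r => rsum m r ^ 2 = 9 with hT
  set P := Finset.univ.filter fun r => rsum m r ^ 2 = 4 with hPdef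
  set X := Finset.univ.filter fun r => rsum m r ^ 2 = 1 ∧ rnorm m r = 3 with hXdef
  set Y := Finset.univ.filter fun r => rsum m r ^ 2 = 1 ∧ rnorm n r = 3 with hYdef
  set Z := Finset.univ.filter fun r => rsum m r ^ 2 = 1 ∧ rnorm m r = 1 ∧ rnorm n r = 1 with hZdef
  have hcast : ∀ (q : ι → Prop) [DecidablePred q],
      ((Finset.univ.filter q).card : ℤ) = ∑ r, if q r then (1 : ℤ) else 0 := fun q _ => by
    rw [Finset.sum_boole]
  have hk : (Fintype.card ι : ℤ) = T.card + P.card + X.card + Y.card + Z.card := by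
    rw [hT, hPdef, hXdef, hYdef, hZdef, hcast, hcast, hcast, hcast, hcast,
      ← Finset.sum_add_distrib, ← Finset.sum_add_distrib, ← Finset.sum_add_distrib,
      ← Finset.sum_add_distrib, Fintype.card_eq_sum_ones, Nat.cast_sum]
    refine Finset.sum_congr rfl fun r _ => ?_
    rcases hrow r with h | h | h | h | h <;> obtain ⟨e1, e2, e3⟩ := h <;> simp [e1, e2, e3]
  have hS1 : (16 : ℤ) = 9 * T.card + 4 * P.card + X.card + Y.card + Z.card := by
    rw [hT, hPdef, hXdef, hYdef, hZdef, hcast, hcast, hcast, hcast, hcast, Finset.mul_sum,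
      Finset.mul_sum, ← Finset.sum_add_distrib, ← Finset.sum_add_distrib, ← Finset.sum_add_distrib,
      ← Finset.sum_add_distrib, ← hcol]
    refine Finset.sum_congr rfl fun r _ => ?_
    rcases hrow r with h | h | h | h | h <;> obtain ⟨e1, e2, e3⟩ := h <;> simp [e1, e2, e3]
  have hS2 : (16 : ℤ) = 3 * T.card + 2 * P.card + 3 * X.card + Y.card + Z.card := by
    rw [hT, hPdef, hXdef, hYdef, hZdef, hcast, hcast, hcast, hcast, hcast, Finset.mul_sum,
      Finset.mul_sum, Finset.mul_sum, ← Finset.sum_add_distrib, ← Finset.sum_add_distrib,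
      ← Finset.sum_add_distrib, ← Finset.sum_add_distrib, ← hA m hmm]
    refine Finset.sum_congr rfl fun r _ => ?_
    rcases hrow r with h | h | h | h | h <;> obtain ⟨e1, e2, e3⟩ := h <;> simp [e1, e2, e3]
  have hS3 : (16 : ℤ) = 3 * T.card + 2 * P.card + X.card + 3 * Y.card + Z.card := by
    rw [hT, hPdef, hXdef, hYdef, hZdef, hcast, hcast, hcast, hcast, hcast, Finset.mul_sum,
      Finset.mul_sum, Finset.mul_sum, ← Finset.sum_add_distrib, ← Finset.sum_add_distrib,
      ← Finset.sum_add_distrib, ← Finset.sum_add_distrib, ← hA n hnn]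
    refine Finset.sum_congr rfl fun r _ => ?_
    rcases hrow r with h | h | h | h | h <;> obtain ⟨e1, e2, e3⟩ := h <;> simp [e1, e2, e3]
  by_cases hP0 : P.card = 0
  · omega
  exfalso
  have hT0 : T.card = 0 := by omega
  have hP2 : P.card ≤ 2 := by omega
  have hnoT : ∀ r, rsum m r ^ 2 ≠ 9 := fun r h => by
    have : r ∈ T := Finset.mem_filter.mpr ⟨Finset.mem_univ r, h⟩
    rw [Finset.card_eq_zero.mp hT0] at this
    exact absurd this (Finset.notMem_empty r)
  have hPm : ∀ r ∈ P, rnorm m r = 2 ∧ rnorm n r = 2 := fun r hr => by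
    have h4 := (Finset.mem_filter.mp hr).2
    rcases hrow r with h | h | h | h | h <;> obtain ⟨e1, e2, e3⟩ := h <;> omega
  obtain ⟨hc2, hsm⟩ := pairs_eq m hmm (P := P) (X := X) (fun r hr => (hPm r hr).1)
    (fun r hr => (Finset.mem_filter.mp hr).2.2)
    (Finset.disjoint_filter.mpr fun r _ h h' => by omega)
    (fun r h1 h2 => by
      simp only [hPdef, hXdef, Finset.mem_filter, Finset.mem_univ, true_and] at h1 h2
      have h9 := hnoT r
      rcases hrow r with h | h | h | h | h <;> obtain ⟨e1, e2, e3⟩ := h <;>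
        first | omega | exact absurd ⟨e1, e2⟩ h2)
    (by omega) (by omega) hP2
  obtain ⟨-, hsn⟩ := pairs_eq n hnn (P := P) (X := Y) (fun r hr => (hPm r hr).2)
    (fun r hr => (Finset.mem_filter.mp hr).2.2)
    (Finset.disjoint_filter.mpr fun r _ h h' => by omega)
    (fun r h1 h2 => by
      simp only [hPdef, hYdef, Finset.mem_filter, Finset.mem_univ, true_and] at h1 h2
      have h9 := hnoT r
      rcases hrow r with h | h | h | h | h <;> obtain ⟨e1, e2, e3⟩ := h <;>
        first | omega | exact absurd ⟨e1, e3⟩ h2)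
    (by omega) (by omega) hP2
  obtain ⟨r, s, hrs, hPeq⟩ := Finset.card_eq_two.mp hc2
  have hr : r ∈ P := by simp [hPeq]
  have hs : s ∈ P := by simp [hPeq]
  -- the entries are half the row sum
  have hhalf : ∀ (f : ι → Fin 4 → ℤ) (t : ι), rnorm f t = 2 → ∀ δ : ℤ, rsum f t = 2 * δ →
      (δ = 1 ∨ δ = -1) → ∀ i, f t i ≠ 0 → f t i = δ := by
    intro f t hnt δ hδ hδ' i hi
    have h1 := Finset.add_sum_erase Finset.univ (fun j => f t j) (Finset.mem_univ i)
    have h2 := Finset.add_sum_erase Finset.univ (fun j => f t j ^ 2) (Finset.mem_univ i)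
    have h3 := sq_sum_le_card_mul_sum_sq (s := Finset.univ.erase i) (f := fun j => f t j)
    rw [Finset.card_erase_of_mem (Finset.mem_univ i), Finset.card_univ, Fintype.card_fin] at h3
    norm_num at h3
    simp only [rsum, rnorm] at hnt hδ
    simp only [hnt, hδ] at h1 h2
    rcases entry_cases (m := f) (r := t) (by simp only [rnorm]; omega) i with a | a | a
    · exact absurd a hi
    all_goals
      rcases hδ' with rfl | rfl
    all_goals
      first
        | exact a
        | (exfalso; rw [a] at h1 h2; nlinarith)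
  have hdv : ∀ t ∈ P, ∃ δ : ℤ, rsum m t = 2 * δ ∧ (δ = 1 ∨ δ = -1) := fun t ht => by
    have h4 := (Finset.mem_filter.mp ht).2
    have h5 : (rsum m t - 2) * (rsum m t + 2) = 0 := by linear_combination h4
    rcases mul_eq_zero.mp h5 with h | h
    · exact ⟨1, by omega, Or.inl rfl⟩
    · exact ⟨-1, by omega, Or.inr rfl⟩
  obtain ⟨δ, hδ, hδ'⟩ := hdv r hr
  obtain ⟨η, hη, hη'⟩ := hdv s hs
  have hkey : ∀ (f : ι → Fin 4 → ℤ), (∀ t, rsum f t = rsum m t) → (∀ t ∈ P, rnorm f t = 2) →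
      (∀ i, f r i ≠ 0 ↔ f s i ≠ 0) → ∑ i, (δ * f r i + η * f s i) ^ 2 = 8 := by
    intro f hf hnf hsupp
    have e : ∀ i, (δ * f r i + η * f s i) ^ 2 = 4 * f r i ^ 2 := fun i => by
      by_cases h0 : f r i = 0
      · have : f s i = 0 := not_not.mp fun h => (hsupp i).mpr h h0
        rw [h0, this]; ring
      · rw [hhalf f r (hnf r hr) δ (by rw [hf, hδ]) hδ' i h0,
          hhalf f s (hnf s hs) η (by rw [hf, hη]) hη' i ((hsupp i).mp h0)]
        rcases hδ' with rfl | rfl <;> rcases hη' with rfl | rfl <;> norm_num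
    rw [Finset.sum_congr rfl fun i _ => e i, ← Finset.mul_sum]
    show 4 * rnorm f r = 8
    rw [hnf r hr]
    norm_num
  have h1 := htwo r s hrs δ η
  rw [hkey m (fun _ => rfl) (fun t ht => (hPm t ht).1) (hsm r hr s hs),
    hkey n (fun t => (hd t).symm) (fun t ht => (hPm t ht).2) (hsn r hr s hs), hδ, hη] at h1
  rcases hδ' with rfl | rfl <;> rcases hη' with rfl | rfl <;> norm_num at h1

end Main

end Cfsg.Agent.BC84.Sixteen
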