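import Cfsg.Agent.BC84.Sixteen.Action
import Cfsg.Agent.Lib.Transfer.Focal
import Cfsg.Agent.Lib.Transfer.PClasses
import Cfsg.Agent.ZStar.Klein
import Cfsg.Agent.ZStar.SectionCount

/-!
# The local structure: elementary abelian Sylow two-subgroup with inertial index nine
-/

set_option autoImplicit false
set_option linter.unusedSectionVars false

open Cfsg

namespace Cfsg.Agent.BC84.Sixteen

variable {G : Type*} [Group G] [Finite G]

/-- The decomposition of the Sylow subgroup with its two rotations. -/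
structure Rot (P : Sylow 2 G) where
  A : Subgroup G
  B : Subgroup G
  a : G
  b : G
  r : G
  s : G
  le_A : A ≤ (P : Subgroup G)
  le_B : B ≤ (P : Subgroup G)
  sq : ∀ x ∈ (P : Subgroup G), x * x = 1
  inf : A ⊓ B = ⊥
  card_A : Nat.card A = 4
  card_B : Nat.card B = 4
  prod : ∀ x ∈ (P : Subgroup G), ∃ u ∈ A, ∃ v ∈ B, x = u * v
  mem_a : a ∈ A
  mem_b : b ∈ B
  ne_a : a ≠ 1
  ne_b : b ≠ 1
  norm_r : r ∈ Subgroup.normalizer ((P : Subgroup G) : Set G)
  norm_s : s ∈ Subgroup.normalizer ((P : Subgroup G) : Set G)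
  r_B : ∀ x ∈ B, r * x * r⁻¹ = x
  s_A : ∀ x ∈ A, s * x * s⁻¹ = x
  r_A : ∀ x ∈ A, x ≠ 1 → r * x * r⁻¹ ≠ x
  s_B : ∀ x ∈ B, x ≠ 1 → s * x * s⁻¹ ≠ x
  norm_A : ∀ n ∈ Subgroup.normalizer ((P : Subgroup G) : Set G), ∀ x ∈ A, n * x * n⁻¹ ∈ A
  norm_B : ∀ n ∈ Subgroup.normalizer ((P : Subgroup G) : Set G), ∀ x ∈ B, n * x * n⁻¹ ∈ B
  fix_A : ∀ n ∈ Subgroup.normalizer ((P : Subgroup G) : Set G), ∀ x ∈ A, x ≠ 1 →
    n * x * n⁻¹ = x → ∀ y ∈ A, n * y * n⁻¹ = y
  fix_B : ∀ n ∈ Subgroup.normalizer ((P : Subgroup G) : Set G), ∀ x ∈ B, x ≠ 1 →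
    n * x * n⁻¹ = x → ∀ y ∈ B, n * y * n⁻¹ = y

theorem exists_rot (P : Sylow 2 G) (hcard : Nat.card P = 16) (hel : ∀ x : P, x ^ 2 = 1)
    (he : (Subgroup.centralizer ((P : Subgroup G) : Set G)).relIndex
      (Subgroup.normalizer ((P : Subgroup G) : Set G)) = 9) : Nonempty (Rot P) := by
  set N := Subgroup.normalizer ((P : Subgroup G) : Set G) with hN
  have h2 : ∀ x : (P : Subgroup G), x * x = 1 := fun x => by rw [← pow_two]; exact hel x
  have hQ : Nat.card ((P : Subgroup G).normalizerMonoidHom).range = 9 := by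
    rw [← Subgroup.index_ker, Subgroup.normalizerMonoidHom_ker]; exact he
  obtain ⟨A, B, ρ, ⟨r, rfl⟩, σ, ⟨s, rfl⟩, hA, hB, hinf, hAi, hBi, hfA, hfB, hrB, hsA, hrA, hsB,
    hprod⟩ := exists_decomposition (V := (P : Subgroup G)) hcard h2 hQ
  have hap : ∀ (n : N) (x : (P : Subgroup G)),
      ((((P : Subgroup G).normalizerMonoidHom n) x : (P : Subgroup G)) : G) = n * x * (n : G)⁻¹ :=
    fun n x => rfl
  obtain ⟨a, ha, ha1⟩ : ∃ a ∈ A, a ≠ 1 := by
    refine A.bot_or_exists_ne_one.resolve_left fun e => ?_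
    rw [e, Subgroup.card_bot] at hA; omega
  obtain ⟨b, hb, hb1⟩ : ∃ b ∈ B, b ≠ 1 := by
    refine B.bot_or_exists_ne_one.resolve_left fun e => ?_
    rw [e, Subgroup.card_bot] at hB; omega
  have hne : ∀ x : (P : Subgroup G), (x : G) ≠ 1 → x ≠ 1 := fun x h e => h (by rw [e]; rfl)
  exact ⟨{
    A := A.map (P : Subgroup G).subtype
    B := B.map (P : Subgroup G).subtype
    a := a
    b := b
    r := r
    s := s
    le_A := Subgroup.map_subtype_le A
    le_B := Subgroup.map_subtype_le B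
    sq := fun x hx => congrArg Subtype.val (h2 ⟨x, hx⟩)
    inf := by
      rw [← Subgroup.map_inf _ _ _ (Subgroup.subtype_injective _), hinf, Subgroup.map_bot]
    card_A := by rw [Subgroup.card_map_of_injective (Subgroup.subtype_injective _), hA]
    card_B := by rw [Subgroup.card_map_of_injective (Subgroup.subtype_injective _), hB]
    prod := fun x hx => by
      obtain ⟨u, hu, v, hv, h⟩ := hprod ⟨x, hx⟩
      exact ⟨u, ⟨u, hu, rfl⟩, v, ⟨v, hv, rfl⟩, congrArg Subtype.val h⟩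
    mem_a := ⟨a, ha, rfl⟩
    mem_b := ⟨b, hb, rfl⟩
    ne_a := fun e => ha1 (Subtype.ext e)
    ne_b := fun e => hb1 (Subtype.ext e)
    norm_r := r.2
    norm_s := s.2
    r_B := by rintro _ ⟨x, hx, rfl⟩; exact congrArg Subtype.val (hrB x hx)
    s_A := by rintro _ ⟨x, hx, rfl⟩; exact congrArg Subtype.val (hsA x hx)
    r_A := by
      rintro _ ⟨x, hx, rfl⟩ h1 h
      exact hrA x hx (hne x h1) (Subtype.ext h)
    s_B := by
      rintro _ ⟨x, hx, rfl⟩ h1 h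
      exact hsB x hx (hne x h1) (Subtype.ext h)
    norm_A := by
      rintro n hn _ ⟨x, hx, rfl⟩
      exact ⟨_, hAi _ ⟨⟨n, hn⟩, rfl⟩ x hx, hap ⟨n, hn⟩ x⟩
    norm_B := by
      rintro n hn _ ⟨x, hx, rfl⟩
      exact ⟨_, hBi _ ⟨⟨n, hn⟩, rfl⟩ x hx, hap ⟨n, hn⟩ x⟩
    fix_A := by
      rintro n hn _ ⟨x, hx, rfl⟩ h1 h _ ⟨y, hy, rfl⟩
      exact congrArg Subtype.val
        (hfA _ ⟨⟨n, hn⟩, rfl⟩ x hx (hne x h1) (Subtype.ext h) y hy)
    fix_B := by
      rintro n hn _ ⟨x, hx, rfl⟩ h1 h _ ⟨y, hy, rfl⟩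
      exact congrArg Subtype.val
        (hfB _ ⟨⟨n, hn⟩, rfl⟩ x hx (hne x h1) (Subtype.ext h) y hy) }⟩

namespace Rot

variable {P : Sylow 2 G} (R : Rot P)

/-- Exchange of the two factors. -/
def swap : Rot P where
  A := R.B
  B := R.A
  a := R.b
  b := R.a
  r := R.s
  s := R.r
  le_A := R.le_B
  le_B := R.le_A
  sq := R.sq
  inf := by rw [inf_comm, R.inf]
  card_A := R.card_B
  card_B := R.card_A
  prod := fun x hx => by
    obtain ⟨u, hu, v, hv, rfl⟩ := R.prod x hx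
    refine ⟨v, hv, u, hu, ?_⟩
    have hc := R.sq _ (mul_mem (R.le_A hu) (R.le_B hv))
    calc u * v = (u * v)⁻¹ := eq_inv_of_mul_eq_one_right hc
      _ = v * u := by
        rw [mul_inv_rev, inv_eq_of_mul_eq_one_right (R.sq v (R.le_B hv)),
          inv_eq_of_mul_eq_one_right (R.sq u (R.le_A hu))]
  mem_a := R.mem_b
  mem_b := R.mem_a
  ne_a := R.ne_b
  ne_b := R.ne_a
  norm_r := R.norm_s
  norm_s := R.norm_r
  r_B := R.s_A
  s_A := R.r_B
  r_A := R.s_B
  s_B := R.r_A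
  norm_A := R.norm_B
  norm_B := R.norm_A
  fix_A := R.fix_B
  fix_B := R.fix_A

include R in
theorem comm (x : G) (hx : x ∈ (P : Subgroup G)) (y : G) (hy : y ∈ (P : Subgroup G)) :
    x * y = y * x := by
  calc x * y = (x * y)⁻¹ := eq_inv_of_mul_eq_one_right (R.sq _ (mul_mem hx hy))
    _ = y * x := by
      rw [mul_inv_rev, inv_eq_of_mul_eq_one_right (R.sq y hy),
        inv_eq_of_mul_eq_one_right (R.sq x hx)]

theorem isMulCommutative (R : Rot P) : IsMulCommutative P :=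
  ⟨⟨fun x y => Subtype.ext (R.comm x x.2 y y.2)⟩⟩

theorem unique {u u' v v' : G} (hu : u ∈ R.A) (hu' : u' ∈ R.A) (hv : v ∈ R.B) (hv' : v' ∈ R.B)
    (h : u * v = u' * v') : u = u' ∧ v = v' := by
  have h1 : u'⁻¹ * u = v' * v⁻¹ := by
    rw [eq_mul_inv_iff_mul_eq, mul_assoc, h, inv_mul_cancel_left]
  have hm : u'⁻¹ * u ∈ R.A ⊓ R.B := Subgroup.mem_inf.mpr
    ⟨R.A.mul_mem (R.A.inv_mem hu') hu, h1 ▸ R.B.mul_mem hv' (R.B.inv_mem hv)⟩
  rw [R.inf, Subgroup.mem_bot] at hm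
  have e : u' = u := inv_mul_eq_one.mp hm
  subst e
  exact ⟨rfl, mul_left_cancel h⟩

theorem conj_eq {n x : G} : n * x * n⁻¹ = x ↔ n * x = x * n := mul_inv_eq_iff_eq_mul

/-- The rotation is transitive on the non-trivial elements of the first factor. -/
theorem rot_a {x : G} (hx : x ∈ R.A) (hx1 : x ≠ 1) :
    ∃ g ∈ Subgroup.zpowers R.r, g * R.a * g⁻¹ = x ∧ ∀ v ∈ R.B, g * v * g⁻¹ = v := by
  classical
  set y := R.r * R.a * R.r⁻¹ with hy
  set z := R.r * y * R.r⁻¹ with hz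
  have hyA := R.norm_A R.r R.norm_r R.a R.mem_a
  have hzA := R.norm_A R.r R.norm_r y hyA
  have hy1 : y ≠ 1 := fun e => R.ne_a (conj_eq_one_iff.mp e)
  have hz1 : z ≠ 1 := fun e => hy1 (conj_eq_one_iff.mp e)
  have hay : y ≠ R.a := R.r_A _ R.mem_a R.ne_a
  have hzy : z ≠ y := R.r_A _ hyA hy1
  have hza : z ≠ R.a := by
    intro e
    have hm : R.a * y ∈ R.A := R.A.mul_mem R.mem_a hyA
    have h1 : R.a * y ≠ 1 := fun h => hay (by
      rw [eq_inv_of_mul_eq_one_right h, inv_eq_of_mul_eq_one_right (R.sq _ (R.le_A R.mem_a))])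
    refine R.r_A _ hm h1 ?_
    rw [show R.r * (R.a * y) * R.r⁻¹ = y * z by rw [hz, hy]; group, e,
      R.comm y (R.le_A hyA) R.a (R.le_A R.mem_a)]
  have hset : ({1, R.a, y, z} : Set G) = (R.A : Set G) := by
    refine Set.eq_of_subset_of_ncard_le ?_ ?_ (Set.toFinite _)
    · rintro w (rfl | rfl | rfl | rfl)
      exacts [R.A.one_mem, R.mem_a, hyA, hzA]
    · rw [← Nat.card_coe_set_eq, SetLike.coe_sort_coe, R.card_A, Set.ncard_insert_of_notMem,
        Set.ncard_insert_of_notMem, Set.ncard_pair hzy.symm]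
      · simp [Ne.symm hay, Ne.symm hza]
      · simp [Ne.symm R.ne_a, Ne.symm hy1, Ne.symm hz1]
  have hxm : x ∈ ({1, R.a, y, z} : Set G) := hset ▸ hx
  rcases hxm with rfl | rfl | rfl | rfl
  · exact absurd rfl hx1
  · exact ⟨1, one_mem _, by group, fun v _ => by group⟩
  · exact ⟨R.r, Subgroup.mem_zpowers _, rfl, R.r_B⟩
  · refine ⟨R.r * R.r, mul_mem (Subgroup.mem_zpowers _) (Subgroup.mem_zpowers _), by rw [hz, hy]; group, fun v hv => ?_⟩
    rw [show R.r * R.r * v * (R.r * R.r)⁻¹ = R.r * (R.r * v * R.r⁻¹) * R.r⁻¹ by group,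
      R.r_B v hv, R.r_B v hv]

theorem isConj_a {x : G} (hx : x ∈ R.A) (hx1 : x ≠ 1) : IsConj R.a x := by
  obtain ⟨g, -, hg, -⟩ := R.rot_a hx hx1
  exact isConj_iff.mpr ⟨g, hg⟩

/-- A normalizing element fixing a point of each factor centralizes the Sylow subgroup. -/
theorem fix_all {n : G} (hn : n ∈ Subgroup.normalizer ((P : Subgroup G) : Set G))
    (ha : ∀ y ∈ R.A, n * y * n⁻¹ = y) (hb : ∀ y ∈ R.B, n * y * n⁻¹ = y) {x : G}
    (hx : x ∈ (P : Subgroup G)) : n * x * n⁻¹ = x := by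
  obtain ⟨u, hu, v, hv, rfl⟩ := R.prod x hx
  rw [← conj_mul, ha u hu, hb v hv]

/-- The element with trivial inertial group. -/
def c : G := R.a * R.b

theorem mem_c : R.c ∈ (P : Subgroup G) := mul_mem (R.le_A R.mem_a) (R.le_B R.mem_b)

theorem mem_aP : R.a ∈ (P : Subgroup G) := R.le_A R.mem_a

theorem not_mem_B : R.a ∉ R.B := fun h => R.ne_a (by
  rw [← Subgroup.mem_bot, ← R.inf]; exact Subgroup.mem_inf.mpr ⟨R.mem_a, h⟩)

theorem c_not_mem_A : R.c ∉ R.A := fun h =>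
  R.swap.not_mem_B (by
    have h1 := R.A.mul_mem (R.A.inv_mem R.mem_a) h
    rw [c, inv_mul_cancel_left] at h1
    exact h1)

theorem c_not_mem_B : R.c ∉ R.B := fun h => R.not_mem_B (by
  have h1 := R.B.mul_mem h (R.B.inv_mem R.mem_b)
  rw [c, mul_inv_cancel_right] at h1
  exact h1)

theorem c_ne_one : R.c ≠ 1 := fun h => R.c_not_mem_A (h ▸ R.A.one_mem)

include R in
theorem orderOf_two {x : G} (hx : x ∈ (P : Subgroup G)) (hx1 : x ≠ 1) : orderOf x = 2 :=
  Involution.orderOf_eq_two_iff'.mpr ⟨R.sq x hx, hx1⟩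

theorem isConj_A_iff {x y : G} (hx : x ∈ (P : Subgroup G)) (hy : y ∈ (P : Subgroup G))
    (h : IsConj x y) : (x ∈ R.A → y ∈ R.A) ∧ (x ∈ R.B → y ∈ R.B) := by
  obtain ⟨g, rfl⟩ := isConj_iff.mp h
  obtain ⟨n, hn, e⟩ := Transfer.conj_normalizer_of_abelian P R.isMulCommutative hx hy
  exact ⟨fun hA => e ▸ R.norm_A n hn x hA, fun hB => e ▸ R.norm_B n hn x hB⟩

/-- The classes of two-elements. -/
theorem classes [DecidableEq G] :
    (∀ x ∈ ({1, R.a, R.b, R.c} : Finset G), ∃ k : ℕ, orderOf x = 2 ^ k) ∧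
    (∀ g : G, (∃ k : ℕ, orderOf g = 2 ^ k) →
      ∃! x, x ∈ ({1, R.a, R.b, R.c} : Finset G) ∧ IsConj g x) := by
  have hmemP : ∀ x ∈ ({1, R.a, R.b, R.c} : Finset G), x ∈ (P : Subgroup G) := fun x hx => by
    simp only [Finset.mem_insert, Finset.mem_singleton] at hx
    rcases hx with rfl | rfl | rfl | rfl
    exacts [one_mem _, R.mem_aP, R.swap.mem_aP, R.mem_c]
  refine ⟨fun x hx => ?_, fun g ⟨k, hk⟩ => ?_⟩
  · by_cases h1 : x = 1
    · exact ⟨0, by simp [h1]⟩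
    · exact ⟨1, by rw [R.orderOf_two (hmemP x hx) h1, pow_one]⟩
  · obtain ⟨d, hd⟩ := Transfer.exists_conj_mem_sylow P hk
    obtain ⟨u, hu, v, hv, he⟩ := R.prod _ hd
    have hg : IsConj g (u * v) := isConj_iff.mpr ⟨d, he⟩
    obtain ⟨w, hw, hgw⟩ : ∃ w ∈ ({1, R.a, R.b, R.c} : Finset G), IsConj g w := by
      rcases eq_or_ne u 1 with hu1 | hu1 <;> rcases eq_or_ne v 1 with hv1 | hv1
      · exact ⟨1, by simp, by simpa [hu1, hv1] using hg⟩
      · refine ⟨R.b, by simp, ?_⟩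
        rw [hu1, one_mul] at hg
        exact hg.trans (R.swap.isConj_a hv hv1).symm
      · refine ⟨R.a, by simp, ?_⟩
        rw [hv1, mul_one] at hg
        exact hg.trans (R.isConj_a hu hu1).symm
      · refine ⟨R.c, by simp, hg.trans ?_⟩
        obtain ⟨n, -, hn, hnB⟩ := R.rot_a hu hu1
        obtain ⟨m, -, hm, hmA⟩ := R.swap.rot_a hv hv1
        refine (isConj_iff.mpr ⟨m * n, ?_⟩ : IsConj R.c (u * v)).symm
        rw [c, ← conj_mul, show m * n * R.a * (m * n)⁻¹ = m * (n * R.a * n⁻¹) * m⁻¹ by group, hn,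
          hmA u hu, show m * n * R.b * (m * n)⁻¹ = m * (n * R.b * n⁻¹) * m⁻¹ by group,
          hnB R.b R.mem_b]
        exact congrArg (u * ·) hm
    refine ⟨w, ⟨hw, hgw⟩, fun x ⟨hx, hgx⟩ => ?_⟩
    have hxw : IsConj x w := hgx.symm.trans hgw
    have h := R.isConj_A_iff (hmemP x hx) (hmemP w hw) hxw
    have h' := R.isConj_A_iff (hmemP w hw) (hmemP x hx) hxw.symm
    have ho : orderOf x = orderOf w := by
      obtain ⟨d, rfl⟩ := isConj_iff.mp hxw
      exact (Involution.orderOf_conj d x).symm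
    have hb : R.b ∉ R.A := R.swap.not_mem_B
    have ha : R.a ∉ R.B := R.not_mem_B
    have h1 : ∀ y : G, orderOf y = orderOf (1 : G) → y = 1 := fun y hy => by
      rwa [orderOf_one, orderOf_eq_one_iff] at hy
    simp only [Finset.mem_insert, Finset.mem_singleton] at hx hw
    rcases hx with rfl | rfl | rfl | rfl <;> rcases hw with rfl | rfl | rfl | rfl <;>
      first
      | rfl
      | exact absurd (h1 _ ho) R.ne_a
      | exact absurd (h1 _ ho) R.ne_b
      | exact absurd (h1 _ ho) R.c_ne_one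
      | exact absurd (h1 _ ho.symm) R.ne_a
      | exact absurd (h1 _ ho.symm) R.ne_b
      | exact absurd (h1 _ ho.symm) R.c_ne_one
      | exact absurd (h.1 R.mem_a) hb
      | exact absurd (h.1 R.mem_a) R.c_not_mem_A
      | exact absurd (h.2 R.mem_b) ha
      | exact absurd (h.2 R.mem_b) R.c_not_mem_B
      | exact absurd (h'.1 R.mem_a) R.c_not_mem_A
      | exact absurd (h'.2 R.mem_b) R.c_not_mem_B

end Rot

end Cfsg.Agent.BC84.Sixteen
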