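import Cfsg.Agent.BC84.Sixteen.Centralizers
import Cfsg.Agent.BC84.Sixteen.CentBlock
import Cfsg.Agent.BC84.MajorRankTwo

/-!
# The principal block on the sections of the involutions
-/

set_option autoImplicit false
set_option linter.unusedSectionVars false

open Cfsg
open scoped ComplexConjugate

namespace Cfsg.Agent.BC84.Sixteen

open BlocksCore BlocksDefect

universe u

variable {G : Type u} [Group G] [Finite G] {M : Ideal AlgInt}

theorem induced_principal {p : ℕ} [Fact p.Prime] (hM : IsPModular p M) {u : G} {k : ℕ}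
    (hu : orderOf u = p ^ k) :
    IsInducedBlock M (Subgroup.centralizer ({u} : Set G))
      (principalBlock M (Subgroup.centralizer ({u} : Set G))) (principalBlock M G) := by
  obtain ⟨B, hB⟩ := BC84.induced_exists hM hu BlocksDefect.isPBlock_principal
  have e := BlocksDefect.eq_principal_of_inducing hM hB
  subst e
  exact hB

/-- The values of the spreading of a function of the regular span, through the block. -/
theorem sum_section {p : ℕ} [Fact p.Prime] (hM : IsPModular p M) {u : G} {k : ℕ}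
    (hu : orderOf u = p ^ k) [Fintype (Subgroup.centralizer ({u} : Set G))]
    [Fintype (principalBlock M G)] {w : Subgroup.centralizer ({u} : Set G) → ℂ}
    (hw : w ∈ regSpan p (principalBlock M (Subgroup.centralizer ({u} : Set G)))) (g : G) :
    ∑ χ : principalBlock M G, classInner w (sectMap p u
      (principalBlock M (Subgroup.centralizer ({u} : Set G))) ((χ : IrrCharacter G) : G → ℂ)) *
        ((χ : IrrCharacter G) : G → ℂ) g = spread u w g := by
  classical
  have := isPrime hM
  have := Fintype.ofFinite G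
  have := finite_irr (G := G)
  letI := CharCore.fintypeIrrCharacter (G := G)
  have hb := induced_principal hM hu
  have hFc := isClassFunction_spread u w
  have h := congrFun (CharCore.eq_sum_classInner hFc) g
  simp only [Finset.sum_apply, Pi.smul_apply, smul_eq_mul] at h
  have hco : ∀ χ : IrrCharacter G, classInner (spread u w) (χ : G → ℂ) =
      classInner w (sectMap p u (principalBlock M (Subgroup.centralizer ({u} : Set G))) (χ : G → ℂ)) :=
    fun χ => by
      rw [← conj_classInner, ← classInner_sectMap hM hb.1 (CharCore.irr_isClassFunction χ) hw,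
        conj_classInner]
  simp only [hco] at h
  rw [h, Finset.sum_set_coe (principalBlock M G) (f := fun χ : IrrCharacter G => classInner w (sectMap p u
      (principalBlock M (Subgroup.centralizer ({u} : Set G))) (χ : G → ℂ)) * (χ : G → ℂ) g)]
  refine Finset.sum_subset (Finset.subset_univ _) fun χ _ hχ => ?_
  have hχ' : χ ∉ principalBlock M G := fun h => hχ (Set.mem_toFinset.mpr h)
  rw [sectMap_eq_zero hM hu hb.1 (fun hc => hχ' ?_)]
  · simp [classInner]
  · rw [induced_unique hM hb hc]; exact mem_blockOf_self χ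

theorem sectMap_regular {p : ℕ} [Fact p.Prime] (hM : IsPModular p M) {u : G} {k : ℕ}
    (hu : orderOf u = p ^ k) [Fintype (Subgroup.centralizer ({u} : Set G))] {χ : IrrCharacter G}
    (hχ : χ ∈ principalBlock M G) (c : Subgroup.centralizer ({u} : Set G))
    (hc : ¬ p ∣ orderOf c) :
    sectMap p u (principalBlock M (Subgroup.centralizer ({u} : Set G))) (χ : G → ℂ) c =
      (χ : G → ℂ) (u * (c : G)) := by
  have := Fintype.ofFinite G
  rw [sectMap_eq_regPart, BC85.pRegularPart_pos hc,
    blockPart_eq_sum_blockCoeff _ (isClassFunction_translate χ u)]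
  refine Eq.trans ?_ (principal_apply_section hM hu hχ c hc)
  refine Finset.sum_congr rfl fun d _ => ?_
  rw [Subgroup.coe_mul, ← mul_assoc, ← mul_assoc,
    Subgroup.mem_centralizer_singleton_iff.mp d.2]

theorem spread_of_not_conj {p : ℕ} [Fact p.Prime] {u : G} {k : ℕ} (hu : orderOf u = p ^ k)
    {b : Set (IrrCharacter (Subgroup.centralizer ({u} : Set G)))}
    {w : Subgroup.centralizer ({u} : Set G) → ℂ} (hw : w ∈ regSpan p b) {g : G}
    (hg : ¬ IsConj (pp p g) u) : spread u w g = 0 := by
  obtain ⟨hc, hy⟩ := regular_inv_pp_mul (p := p) g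
  obtain ⟨-, -, -, ⟨k', hk'⟩, -⟩ := pp_spec (p := p) g
  obtain ⟨h1, h2⟩ := isClassFunction_of_mem_regSpan hw
  have h := (spread_apply hu hk' h1 h2 hy hc).1 hg
  rwa [mul_inv_cancel_left] at h

section Rotations

variable {P : Sylow 2 G} (R : Rot P) (hM : IsPModular 2 M)

include R

theorem orderOf_c : orderOf R.c = 2 ^ 1 := by rw [R.orderOf_two R.mem_c R.c_ne_one, pow_one]

include hM

/-- Constancy on the section of `c`. -/
theorem apply_c {χ : IrrCharacter G} (hχ : χ ∈ principalBlock M G) {w : G}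
    (hw : w ∈ Rot.cent R.c) (hodd : ¬ 2 ∣ orderOf w) :
    (χ : G → ℂ) (R.c * w) = (χ : G → ℂ) R.c := by
  classical
  haveI : Fact (Nat.Prime 2) := ⟨Nat.prime_two⟩
  haveI := Fintype.ofFinite G
  obtain ⟨K, hK, -, hodd'⟩ := R.exists_sectionData_c
  exact ZStar.apply_mul_eq hM hK hχ (hodd' w hw hodd)

omit R hM in
theorem exists_int_involution {x : G} (hx : orderOf x = 2) (χ : IrrCharacter G) :
    ∃ z : ℤ, (χ : G → ℂ) x = z := by
  classical
  haveI := Fintype.ofFinite G
  obtain ⟨χf, n, ρ, hρ, hχf⟩ := χ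
  subst hχf
  obtain ⟨b, ω, hω, -, -, hk⟩ := CharCore.exists_eigenvalues ρ x
  rw [hx] at hω
  have hs : ∀ i, ∃ s : ℤ, ω i = s := fun i => by
    rcases mul_self_eq_mul_self_iff.mp (show ω i * ω i = 1 * 1 by
      rw [one_mul, ← pow_two]; exact hω i) with h | h
    · exact ⟨1, by simpa using h⟩
    · exact ⟨-1, by simpa using h⟩
  choose s hs using hs
  refine ⟨∑ i, s i, ?_⟩
  have := hk 1
  rw [pow_one] at this
  show ρ.character x = _
  rw [this]
  simp [pow_one, hs]

/-- The section of `c`. -/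
theorem c_section [Fintype (principalBlock M G)] :
    ∃ d : principalBlock M G → ℤ, (∀ χ : principalBlock M G, ((χ : IrrCharacter G) : G → ℂ) R.c = d χ) ∧
      (∀ χ, d χ ≠ 0) ∧ ∑ χ, d χ ^ 2 = 16 ∧
      ∀ g : G, ¬ IsConj (pp 2 g) R.c → ∑ χ : principalBlock M G, (d χ : ℂ) * ((χ : IrrCharacter G) : G → ℂ) g = 0 := by
  classical
  haveI : Fact (Nat.Prime 2) := ⟨Nat.prime_two⟩
  have := isPrime hM
  haveI := Fintype.ofFinite G
  haveI := Fintype.ofFinite (Rot.cent R.c)
  obtain ⟨K, hK, hcard, hodd⟩ := R.exists_sectionData_c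
  choose d hd using fun χ : principalBlock M G =>
    exists_int_involution (R.orderOf_two R.mem_c R.c_ne_one) (χ : IrrCharacter G)
  set b := principalBlock M (Rot.cent R.c)
  set w := pRegularPart 2 (oneIrr (Rot.cent R.c) : Rot.cent R.c → ℂ) with hw
  have hwm : w ∈ regSpan 2 b := Submodule.subset_span ⟨_, oneIrr_mem, rfl⟩
  have hcount : (Finset.univ.filter fun y : Rot.cent R.c => ¬ 2 ∣ orderOf y).card = Nat.card K := by
    have e : ∀ y : Rot.cent R.c, ¬ 2 ∣ orderOf y ↔ (y : G) ∈ K := fun y => by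
      rw [← Subgroup.orderOf_coe]
      exact ⟨fun h => hodd y y.2 h, fun h hdvd => hK.coprime
        (hdvd.trans (Subgroup.orderOf_dvd_natCard K h))⟩
    rw [Finset.filter_congr (fun y _ => e y), ← Fintype.card_subtype, ← Nat.card_eq_fintype_card]
    exact Nat.card_congr (Equiv.subtypeSubtypeEquivSubtype fun {x} h => hK.le h)
  have hinner : ∀ (χ : principalBlock M G) (v : Rot.cent R.c → ℂ), v = w →
      classInner v (sectMap 2 R.c b ((χ : IrrCharacter G) : G → ℂ)) = (d χ : ℂ) / 16 := by
    rintro χ _ rfl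
    rw [classInner, Finset.sum_congr rfl (g := fun y : Rot.cent R.c =>
      if ¬ 2 ∣ orderOf y then (d χ : ℂ) else 0) (fun y _ => ?_), ← Finset.sum_filter,
      Finset.sum_const, hcount, nsmul_eq_mul, hcard]
    · push_cast
      have : (Nat.card K : ℂ) ≠ 0 := Nat.cast_ne_zero.mpr Nat.card_pos.ne'
      field_simp
    · by_cases hy : 2 ∣ orderOf y
      · rw [if_neg (not_not.mpr hy), hw, BC85.pRegularPart_neg hy, zero_mul]
      · rw [if_pos hy, hw, BC85.pRegularPart_pos hy,
          sectMap_regular hM (orderOf_c R) χ.2 y hy,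
          apply_c R hM χ.2 y.2 (by rwa [Subgroup.orderOf_coe]), hd]
        simp [coe_oneIrr]
  refine ⟨d, hd, fun χ h0 => ?_, ?_, fun g hg => ?_⟩
  · have hdef : blockDefect 2 b = blockDefect 2 (principalBlock M G) := by
      have e1 : ∀ {H : Type u} [Group H] [Finite H], blockDefect 2 (principalBlock M H) =
          (Nat.card H).factorization 2 := by
        intro H _ _
        have : sInf ((fun χ : IrrCharacter H => (charDegree (χ : H → ℂ)).factorization 2) ''
            principalBlock M H) = 0 := Nat.sInf_eq_zero.mpr (Or.inl ⟨oneIrr H, oneIrr_mem, by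
              simp [coe_oneIrr, charDegree]⟩)
        rw [blockDefect, this, Nat.sub_zero]
      rw [e1, e1]
      have h16 : 2 ^ (Nat.card (Rot.cent R.c)).factorization 2 = 2 ^ (Nat.card G).factorization 2 := by
        rw [← (P.subtype (R.le_cent R.mem_c)).card_eq_multiplicity, ← P.card_eq_multiplicity]
        exact Nat.card_congr (Subgroup.subgroupOfEquivOfLe (R.le_cent R.mem_c)).toEquiv
      exact Nat.pow_right_injective le_rfl h16
    have h := (RankTwo.contr_val hM (orderOf_c R) (induced_principal hM (orderOf_c R)) hdef χ.2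
      (oneIrr_mem (M := M)) (blockHeight_one _)).1
    refine h (mul_eq_zero_of_right _ ?_)
    rw [show contr 2 b ((χ : IrrCharacter G) : G → ℂ) (oneIrr G : G → ℂ) =
      classInner (sectMap 2 R.c b ((χ : IrrCharacter G) : G → ℂ))
        (sectMap 2 R.c b (oneIrr G : G → ℂ)) by unfold contr; congr!, classInner]
    refine mul_eq_zero_of_right _ (Finset.sum_eq_zero fun y _ => ?_)
    by_cases hy : 2 ∣ orderOf y
    · rw [(isClassFunction_of_mem_regSpan (sectMap_mem R.c b _)).2 y hy, zero_mul]
    · rw [sectMap_regular hM (orderOf_c R) χ.2 y hy,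
        apply_c R hM χ.2 y.2 (by rwa [Subgroup.orderOf_coe]), hd, h0, Int.cast_zero, zero_mul]
  · have h := sum_section hM (orderOf_c R) hwm R.c
    have hv : spread R.c w R.c = 1 := by
      obtain ⟨h1, h2⟩ := isClassFunction_of_mem_regSpan hwm
      have := (spread_apply (orderOf_c R) (orderOf_c R) h1 h2 (y := (1 : G)) (by simp)
        (Commute.one_right R.c)).2 rfl (one_mem _)
      rw [mul_one] at this
      rw [this, hw, BC85.pRegularPart_pos (by simp)]
      simp [coe_oneIrr]
    rw [hv, Finset.sum_congr rfl fun χ _ => by rw [hinner χ w rfl, hd χ]] at h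
    have h' : ((∑ χ, d χ ^ 2 : ℤ) : ℂ) = ((16 : ℤ) : ℂ) := by
      push_cast
      rw [Finset.sum_congr rfl (g := fun χ => (d χ : ℂ) / 16 * (d χ : ℂ) * 16) (fun χ _ => by ring),
        ← Finset.sum_mul, h, one_mul]
    exact_mod_cast h'
  · have h := sum_section hM (orderOf_c R) hwm g
    rw [spread_of_not_conj (orderOf_c R) hwm hg,
      Finset.sum_congr rfl fun χ _ => by rw [hinner χ w rfl]] at h
    rw [Finset.sum_congr rfl (g := fun χ : principalBlock M G =>
      16 * ((d χ : ℂ) / 16 * ((χ : IrrCharacter G) : G → ℂ) g)) (fun χ _ => by ring),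
      ← Finset.mul_sum, h, mul_zero]

set_option maxHeartbeats 1600000 in
/-- The section of `a`. -/
theorem a_section [Fintype (principalBlock M G)] (d : principalBlock M G → ℤ)
    (hd : ∀ χ : principalBlock M G, ((χ : IrrCharacter G) : G → ℂ) R.c = d χ) (hd2 : ∑ χ, d χ ^ 2 = 16)
    (hdv : ∀ g : G, ¬ IsConj (pp 2 g) R.c →
      ∑ χ : principalBlock M G, (d χ : ℂ) * ((χ : IrrCharacter G) : G → ℂ) g = 0) :
    ∃ m : principalBlock M G → Fin 4 → ℤ,
      (∀ χ, ∑ i, m χ i = d χ) ∧ (∀ i j, ∑ χ, m χ i * m χ j = if i = j then 4 else 0) ∧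
      (∀ i, ∑ χ, m χ i * d χ = 4) ∧
      (∀ i g, ¬ IsConj (pp 2 g) R.a → ¬ IsConj (pp 2 g) R.c →
        ∑ χ : principalBlock M G, (m χ i : ℂ) * ((χ : IrrCharacter G) : G → ℂ) g = 0) ∧
      (∀ x : principalBlock M G → ℂ,
        (∀ g : G, IsConj (pp 2 g) R.a → ∑ χ : principalBlock M G, x χ * ((χ : IrrCharacter G) : G → ℂ) g = 0) →
        ∀ i, ∑ χ, x χ * (m χ i : ℂ) = (1 / 4 : ℂ) * ∑ χ, x χ * (d χ : ℂ)) ∧
      blockRank 2 (principalBlock M (Rot.cent R.a)) = 3 := by
  classical
  haveI : Fact (Nat.Prime 2) := ⟨Nat.prime_two⟩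
  have := isPrime hM
  haveI := Fintype.ofFinite G
  obtain ⟨K, hKn, hidx, Q, β, hQ, hβQ, hβ2, hβb, hone⟩ := R.exists_residual_a
  haveI := Fintype.ofFinite K
  haveI := Fintype.ofFinite (Rot.cent R.a)
  obtain ⟨D⟩ := exists_centData (M := M) hM (P.subtype (R.le_cent R.mem_aP))
    (fun x hx y hy => Subtype.ext (R.comm _ hx _ hy)) K hidx Q hQ hβQ hβ2 hone
  have ha : orderOf R.a = 2 ^ 1 := by rw [R.orderOf_two R.mem_aP R.ne_a, pow_one]
  set b := principalBlock M (Rot.cent R.a)
  have hK4 : (Nat.card (Rot.cent R.a) : ℂ) = 4 * (Nat.card K : ℂ) := by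
    rw [← Subgroup.card_mul_index K, hidx]; push_cast; ring
  have hK0 : (Nat.card K : ℂ) ≠ 0 := Nat.cast_ne_zero.mpr Nat.card_pos.ne'
  -- values on the singular part
  have hsing : ∀ (χ : principalBlock M G) (y : K), 2 ∣ orderOf y →
      ((χ : IrrCharacter G) : G → ℂ) (R.a * ((y : Rot.cent R.a) : G)) = d χ := by
    intro χ y hy
    obtain ⟨g, w, hw, hwodd, rfl⟩ := exists_singular_form Q hQ hβ2 hone hy
    have hga : ((g : Rot.cent R.a) : G) * R.a = R.a * ((g : Rot.cent R.a) : G) :=
      Subgroup.mem_centralizer_singleton_iff.mp (g : Rot.cent R.a).2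
    have hwa : ((w : Rot.cent R.a) : G) * R.a = R.a * ((w : Rot.cent R.a) : G) :=
      Subgroup.mem_centralizer_singleton_iff.mp (w : Rot.cent R.a).2
    have hwb : ((w : Rot.cent R.a) : G) * R.b = R.b * ((w : Rot.cent R.a) : G) := by
      have := congrArg (fun z : K => (((z : Rot.cent R.a)) : G)) hw
      simpa [hβb] using this
    have hwc : ((w : Rot.cent R.a) : G) ∈ Rot.cent R.c := Subgroup.mem_centralizer_singleton_iff.mpr
      (by rw [Rot.c, ← mul_assoc, hwa, mul_assoc, hwb, ← mul_assoc])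
    rw [← hd χ, ← apply_c R hM χ.2 hwc (by rwa [Subgroup.orderOf_coe, Subgroup.orderOf_coe]),
      ← CharCore.irr_isClassFunction (χ : IrrCharacter G) (R.c * ((w : Rot.cent R.a) : G))
        ((g : Rot.cent R.a) : G)]
    refine congrArg _ ?_
    simp only [Subgroup.coe_mul, InvMemClass.coe_inv, hβb, Rot.c]
    simp only [← mul_assoc]
    rw [hga]
  -- the multiplicities
  set S : principalBlock M G → Fin 4 → ℂ := fun χ i => (Nat.card K : ℂ)⁻¹ * ∑ y : K,
    if 2 ∣ orderOf y then 0 else
      ((χ : IrrCharacter G) : G → ℂ) (R.a * ((y : Rot.cent R.a) : G)) * conj ((D.ψ i : K → ℂ) y)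
    with hS
  set ρ : ℂ := (Nat.card K : ℂ)⁻¹ *
    ((Finset.univ.filter fun y : K => 2 ∣ orderOf y).card : ℂ) with hρ
  have hεc : ∀ i, conj (D.ε i : ℂ) = (D.ε i : ℂ) := fun i => map_intCast _ _
  have hε2 : ∀ i, (D.ε i : ℂ) * (D.ε i : ℂ) = 1 := fun i => by
    rcases D.sign i with h | h <;> simp [h]
  have hsplit : ∀ f : K → ℂ, ∀ i, classInner f (D.ψ i : K → ℂ) = (Nat.card K : ℂ)⁻¹ * (∑ y : K,
      (if 2 ∣ orderOf y then 0 else f y * conj ((D.ψ i : K → ℂ) y)) +
      ∑ y : K, if 2 ∣ orderOf y then f y * conj ((D.ψ i : K → ℂ) y) else 0) := by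
    intro f i
    rw [classInner, ← Finset.sum_add_distrib]
    congr 1
    exact Finset.sum_congr rfl fun y _ => by by_cases h : 2 ∣ orderOf y <;> simp [h]
  have hρsum : ∀ c : ℂ, (Nat.card K : ℂ)⁻¹ * (∑ y : K, if 2 ∣ orderOf y then c else 0) = ρ * c := by
    intro c
    rw [hρ, ← Finset.sum_filter, Finset.sum_const, nsmul_eq_mul, mul_assoc]
  set E : Fin 4 → Fin 4 → ℂ := fun i j => (Nat.card K : ℂ)⁻¹ * ∑ y : K,
    if 2 ∣ orderOf y then 0 else (D.ψ i : K → ℂ) y * conj ((D.ψ j : K → ℂ) y) with hE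
  have hEval : ∀ i j, E i j = (if i = j then 1 else 0) - ρ * ((D.ε i : ℂ) * D.ε j) := by
    intro i j
    rw [← D.orth i j, hsplit _ j, mul_add, ← hρsum ((D.ε i : ℂ) * D.ε j),
      eq_sub_iff_add_eq]
    congr 1
    congr 1
    refine Finset.sum_congr rfl fun y _ => ?_
    by_cases h : 2 ∣ orderOf y
    · rw [if_pos h, if_pos h, D.singular i y h, D.singular j y h, hεc]
    · rw [if_neg h, if_neg h]
  have hρ4 : ρ = 1 / 4 := by
    have h0 : ∑ i, (D.ε i : ℂ) * E i 0 = 0 := by
      simp only [hE, Finset.mul_sum]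
      rw [Finset.sum_comm]
      refine Finset.sum_eq_zero fun y _ => ?_
      by_cases h : 2 ∣ orderOf y
      · exact Finset.sum_eq_zero fun i _ => by rw [if_pos h, mul_zero, mul_zero]
      · simp only [if_neg h]
        rw [Finset.sum_congr rfl (g := fun i => ((Nat.card K : ℂ)⁻¹ * conj ((D.ψ 0 : K → ℂ) y)) *
          ((D.ε i : ℂ) * (D.ψ i : K → ℂ) y)) (fun i _ => by ring), ← Finset.mul_sum,
          D.relation y h, mul_zero]
    simp only [hEval, mul_sub, Finset.sum_sub_distrib] at h0
    rw [Finset.sum_congr rfl (g := fun i => if i = 0 then (D.ε 0 : ℂ) else 0) (fun i _ => by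
      split <;> simp_all), Finset.sum_ite_eq', if_pos (Finset.mem_univ _),
      Finset.sum_congr rfl (g := fun _ : Fin 4 => ρ * (D.ε 0 : ℂ)) (fun i _ => by
        linear_combination (ρ * (D.ε 0 : ℂ)) * hε2 i), Finset.sum_const, Finset.card_univ,
      Fintype.card_fin, nsmul_eq_mul] at h0
    have hne : (D.ε 0 : ℂ) ≠ 0 := fun h => by
      have := hε2 0; rw [h, mul_zero] at this; exact zero_ne_one this
    refine mul_right_cancel₀ hne ?_
    linear_combination (1 / 4 : ℂ) * (-h0)
  -- integrality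
  have hint : ∀ (χ : principalBlock M G) (i : Fin 4), ∃ z : ℤ,
      (D.ε i : ℂ) * S χ i + (d χ : ℂ) / 4 = z := by
    intro χ i
    obtain ⟨n, -, hn⟩ := exists_mult hM (χ : IrrCharacter G) (u := R.a)
    haveI := finite_irr (G := Rot.cent R.a)
    letI := CharCore.fintypeIrrCharacter (G := Rot.cent R.a)
    have hexp : ∀ c : Rot.cent R.a, ((χ : IrrCharacter G) : G → ℂ) (R.a * (c : G)) =
        ∑ η : IrrCharacter (Rot.cent R.a), ((n η : ℂ) * cval η (cu R.a)) *
          (η : Rot.cent R.a → ℂ) c := by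
      intro c
      have h := congrFun (CharCore.eq_sum_classInner
        (isClassFunction_translate (χ : IrrCharacter G) R.a)) c
      simp only [Finset.sum_apply, Pi.smul_apply, smul_eq_mul] at h
      rw [h]
      exact Finset.sum_congr rfl fun η _ => by rw [← hn η]
    choose N hN using fun η : IrrCharacter (Rot.cent R.a) =>
      CharCore.IsCharacter.exists_classInner_irr_eq_natCast
        (CharCore.isCharacter_restrict (CharCore.irr_isCharacter η) K) (D.ψ i)
    have hcv : ∀ η : IrrCharacter (Rot.cent R.a), ∃ z : ℤ, cval η (cu R.a) = z := by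
      intro η
      have h1 : cval η (cu R.a) ^ 2 = 1 := by
        have h := RankTwo.cval_pow_card hM ha (induced_principal hM ha) η
        simpa using h
      rcases sq_eq_one_iff.mp h1 with h | h
      · exact ⟨1, by simpa using h⟩
      · exact ⟨-1, by simpa using h⟩
    choose z hz using hcv
    have hg : classInner (fun y : K => ((χ : IrrCharacter G) : G → ℂ) (R.a * ((y : Rot.cent R.a) : G)))
        (D.ψ i : K → ℂ) = ((∑ η : IrrCharacter (Rot.cent R.a), (n η : ℤ) * z η * N η : ℤ) : ℂ) := by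
      rw [show (fun y : K => ((χ : IrrCharacter G) : G → ℂ) (R.a * ((y : Rot.cent R.a) : G))) =
        ∑ η : IrrCharacter (Rot.cent R.a), ((n η : ℂ) * cval η (cu R.a)) •
          (fun y : K => (η : Rot.cent R.a → ℂ) y) from funext fun y => by
            rw [Finset.sum_apply]; exact hexp y,
        CharCore.classInner_sum_left]
      push_cast
      refine Finset.sum_congr rfl fun η _ => ?_
      rw [CharCore.classInner_smul_left, hN, hz]
    have hsum2 : (∑ y : K, if 2 ∣ orderOf y then
        ((χ : IrrCharacter G) : G → ℂ) (R.a * ((y : Rot.cent R.a) : G)) *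
          conj ((D.ψ i : K → ℂ) y) else 0) =
        ∑ y : K, if 2 ∣ orderOf y then (d χ : ℂ) * (D.ε i : ℂ) else 0 :=
      Finset.sum_congr rfl fun y _ => by
        by_cases h : 2 ∣ orderOf y
        · rw [if_pos h, if_pos h, hsing χ y h, D.singular i y h, hεc]
        · rw [if_neg h, if_neg h]
    rw [hsplit _ i, mul_add, hsum2, hρsum, hρ4] at hg
    refine ⟨D.ε i * ∑ η : IrrCharacter (Rot.cent R.a), (n η : ℤ) * z η * N η, ?_⟩
    rw [Int.cast_mul, ← hg, hS]
    linear_combination (-(d χ : ℂ) / 4) * hε2 i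
  choose m hm using hint
  have hSm : ∀ χ i, S χ i = (D.ε i : ℂ) * (m χ i : ℂ) - (D.ε i : ℂ) * (d χ : ℂ) / 4 := fun χ i => by
    rw [← hm χ i]; linear_combination -(S χ i) * hε2 i
  -- the inner products with the extensions
  set w : Fin 4 → (Rot.cent R.a → ℂ) := fun i => pRegularPart 2 (D.θ i : Rot.cent R.a → ℂ) with hw
  have hwm : ∀ i, w i ∈ regSpan 2 b := fun i => Submodule.subset_span ⟨_, D.mem i, rfl⟩
  have hinner : ∀ (χ : principalBlock M G) i,
      classInner (w i) (sectMap 2 R.a b ((χ : IrrCharacter G) : G → ℂ)) = S χ i / 4 := by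
    intro χ i
    rw [← conj_classInner]
    have hreal : conj (S χ i / 4) = S χ i / 4 := by
      rw [hSm, map_div₀, map_sub, map_div₀, map_mul, map_mul]
      simp only [map_intCast, map_ofNat]
    rw [← hreal]
    congr 1
    have hout : ∀ c : Rot.cent R.a, c ∉ K →
        sectMap 2 R.a b ((χ : IrrCharacter G) : G → ℂ) c * conj (w i c) = 0 := fun c hc => by
      have hc' : 2 ∣ orderOf c := by
        by_contra h
        exact hc (D.odd_mem c h)
      simp only [hw]; rw [BC85.pRegularPart_neg hc', map_zero, mul_zero]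
    rw [classInner, hK4, ← Finset.sum_subset (Finset.subset_univ
        (Finset.univ.filter fun c : Rot.cent R.a => c ∈ K))
        (fun c _ hc => hout c fun h => hc (Finset.mem_filter.mpr ⟨Finset.mem_univ _, h⟩)),
      Finset.sum_subtype (p := fun c => c ∈ K) _ (fun c => by simp)]
    simp only [hS]
    rw [mul_inv]
    refine Eq.trans (congrArg _ ?_) (by ring :
      (4 : ℂ)⁻¹ * (Nat.card K : ℂ)⁻¹ * (∑ y : K, if 2 ∣ orderOf y then 0 else
        ((χ : IrrCharacter G) : G → ℂ) (R.a * ((y : Rot.cent R.a) : G)) *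
          conj ((D.ψ i : K → ℂ) y)) = _)
    refine Finset.sum_congr (by congr!) fun y _ => ?_
    by_cases hy : 2 ∣ orderOf y
    · rw [if_pos hy]
      simp only [hw]
      rw [BC85.pRegularPart_neg (by rwa [Subgroup.orderOf_coe]), map_zero, mul_zero]
    · have hy' : ¬ 2 ∣ orderOf (y : Rot.cent R.a) := by rwa [Subgroup.orderOf_coe]
      rw [if_neg hy]
      simp only [hw]
      rw [BC85.pRegularPart_pos hy', D.res, sectMap_regular hM ha χ.2 _ hy']
  have hL : ∀ i g, ∑ χ : principalBlock M G, S χ i * ((χ : IrrCharacter G) : G → ℂ) g = 4 * spread R.a (w i) g := by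
    intro i g
    rw [← sum_section hM ha (hwm i) g, Finset.mul_sum]
    exact Finset.sum_congr rfl fun χ _ => by rw [hinner]; ring
  have hSS : ∀ i j, ∑ χ, S χ i * S χ j = 4 * E i j := by
    intro i j
    calc ∑ χ, S χ i * S χ j = ∑ χ, (Nat.card K : ℂ)⁻¹ * ∑ y : K, if 2 ∣ orderOf y then 0 else
          S χ i * ((χ : IrrCharacter G) : G → ℂ) (R.a * ((y : Rot.cent R.a) : G)) *
            conj ((D.ψ j : K → ℂ) y) := by
          refine Finset.sum_congr rfl fun χ _ => ?_
          conv_lhs => arg 2; rw [hS]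
          simp only [Finset.mul_sum]
          refine Finset.sum_congr rfl fun y _ => ?_
          split <;> ring
      _ = (Nat.card K : ℂ)⁻¹ * ∑ y : K, if 2 ∣ orderOf y then 0 else
          4 * (D.ψ i : K → ℂ) y * conj ((D.ψ j : K → ℂ) y) := by
          rw [← Finset.mul_sum, Finset.sum_comm]
          congr 1
          refine Finset.sum_congr rfl fun y _ => ?_
          by_cases hy : 2 ∣ orderOf y
          · simp [hy]
          · simp only [if_neg hy]
            rw [← Finset.sum_mul, hL]
            congr 2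
            have hy' : ¬ 2 ∣ orderOf (y : Rot.cent R.a) := by rwa [Subgroup.orderOf_coe]
            obtain ⟨h1, h2⟩ := isClassFunction_of_mem_regSpan (hwm i)
            rw [(spread_apply ha ha h1 h2 (y := ((y : Rot.cent R.a) : G))
              (by rwa [Subgroup.orderOf_coe])
              (Subgroup.mem_centralizer_singleton_iff.mp (y : Rot.cent R.a).2).symm).2 rfl
              (y : Rot.cent R.a).2]
            simp only [hw]
            exact (BC85.pRegularPart_pos hy').trans (D.res i y)
      _ = 4 * E i j := by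
          simp only [hE, Finset.mul_sum]
          refine Finset.sum_congr rfl fun y _ => ?_
          split <;> ring
  -- vanishing against sections other than that of `a`
  have hx : ∀ x : principalBlock M G → ℂ,
      (∀ g : G, IsConj (pp 2 g) R.a → ∑ χ : principalBlock M G, x χ * ((χ : IrrCharacter G) : G → ℂ) g = 0) →
      ∀ i, ∑ χ, x χ * S χ i = 0 := by
    intro x hx i
    calc ∑ χ, x χ * S χ i = (Nat.card K : ℂ)⁻¹ * ∑ y : K, if 2 ∣ orderOf y then 0 else
          (∑ χ, x χ * ((χ : IrrCharacter G) : G → ℂ) (R.a * ((y : Rot.cent R.a) : G))) *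
            conj ((D.ψ i : K → ℂ) y) := by
          simp only [hS, Finset.mul_sum]
          rw [Finset.sum_comm]
          refine Finset.sum_congr rfl fun y _ => ?_
          by_cases hy : 2 ∣ orderOf y
          · simp [hy]
          · simp only [if_neg hy, Finset.sum_mul, Finset.mul_sum]
            exact Finset.sum_congr rfl fun χ _ => by ring
      _ = 0 := by
          refine mul_eq_zero_of_right _ (Finset.sum_eq_zero fun y _ => ?_)
          by_cases hy : 2 ∣ orderOf y
          · rw [if_pos hy]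
          · rw [if_neg hy, hx _ ?_, zero_mul]
            rw [pp_mul ⟨1, ha⟩ (by rwa [Subgroup.orderOf_coe, Subgroup.orderOf_coe])
              (Subgroup.mem_centralizer_singleton_iff.mp (y : Rot.cent R.a).2).symm]
  have hac : ∀ g : G, IsConj (pp 2 g) R.a → ¬ IsConj (pp 2 g) R.c := fun g h1 h2 =>
    R.c_not_mem_A ((R.isConj_A_iff R.mem_aP R.mem_c (h1.symm.trans h2)).1 R.mem_a)
  have hdS : ∀ i, ∑ χ, (d χ : ℂ) * S χ i = 0 := hx _ fun g hg => hdv g (hac g hg)
  refine ⟨m, fun χ => ?_, fun i j => ?_, fun i => ?_, fun i g hga hgc => ?_, fun x hxg i => ?_, D.rank⟩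
  · have h : ((∑ i, m χ i : ℤ) : ℂ) = (d χ : ℂ) := by
      push_cast
      simp only [← hm, Finset.sum_add_distrib, hS, Finset.sum_const, Finset.card_univ,
        Fintype.card_fin]
      rw [Finset.sum_congr rfl (g := fun i => (Nat.card K : ℂ)⁻¹ * ∑ y : K, (D.ε i : ℂ) *
        (if 2 ∣ orderOf y then 0 else ((χ : IrrCharacter G) : G → ℂ) (R.a * ((y : Rot.cent R.a) : G)) *
          conj ((D.ψ i : K → ℂ) y))) (fun i _ => by rw [← Finset.mul_sum]; ring),
        ← Finset.mul_sum, Finset.sum_comm, Finset.sum_eq_zero fun y _ => ?_]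
      · simp; ring
      · by_cases hy : 2 ∣ orderOf y
        · simp [hy]
        · simp only [if_neg hy]
          rw [Finset.sum_congr rfl (g := fun i =>
            ((χ : IrrCharacter G) : G → ℂ) (R.a * ((y : Rot.cent R.a) : G)) *
              conj ((D.ε i : ℂ) * (D.ψ i : K → ℂ) y)) (fun i _ => by rw [map_mul, hεc]; ring),
            ← Finset.mul_sum, ← map_sum, D.relation y hy, map_zero, mul_zero]
    exact_mod_cast h
  · have h : ((∑ χ, m χ i * m χ j : ℤ) : ℂ) = ((if i = j then 4 else 0 : ℤ) : ℂ) := by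
      push_cast
      simp only [← hm]
      rw [Finset.sum_congr rfl (g := fun χ => (D.ε i : ℂ) * D.ε j * (S χ i * S χ j) +
        (D.ε i : ℂ) / 4 * ((d χ : ℂ) * S χ i) + (D.ε j : ℂ) / 4 * ((d χ : ℂ) * S χ j) +
        (1 / 16 : ℂ) * ((d χ : ℂ) ^ 2)) (fun χ _ => by ring)]
      have hd2' : ∑ χ, (d χ : ℂ) ^ 2 = 16 := by exact_mod_cast hd2
      simp only [Finset.sum_add_distrib, ← Finset.mul_sum, hSS, hdS, hd2', hEval, hρ4]
      by_cases hij : i = j
      · subst hij; simp only [if_pos]
        linear_combination (3 - (D.ε i : ℂ) * D.ε i) * hε2 i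
      · simp only [if_neg hij]
        linear_combination (-(D.ε j : ℂ) * D.ε j) * hε2 i - hε2 j
    exact_mod_cast h
  · have h : ((∑ χ, m χ i * d χ : ℤ) : ℂ) = ((4 : ℤ) : ℂ) := by
      push_cast
      simp only [← hm]
      rw [Finset.sum_congr rfl (g := fun χ => (D.ε i : ℂ) * ((d χ : ℂ) * S χ i) +
        (1 / 4 : ℂ) * ((d χ : ℂ) ^ 2)) (fun χ _ => by ring)]
      have hd2' : ∑ χ, (d χ : ℂ) ^ 2 = 16 := by exact_mod_cast hd2
      simp only [Finset.sum_add_distrib, ← Finset.mul_sum, hdS, hd2']
      norm_num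
    exact_mod_cast h
  · simp only [← hm]
    rw [Finset.sum_congr rfl (g := fun χ : principalBlock M G => (D.ε i : ℂ) *
      (S χ i * ((χ : IrrCharacter G) : G → ℂ) g) + (1 / 4 : ℂ) *
        ((d χ : ℂ) * ((χ : IrrCharacter G) : G → ℂ) g)) (fun χ _ => by ring),
      Finset.sum_add_distrib, ← Finset.mul_sum, ← Finset.mul_sum, hL, hdv g hgc,
      spread_of_not_conj ha (hwm i) hga]
    ring
  · simp only [← hm]
    rw [Finset.sum_congr rfl (g := fun χ : principalBlock M G => (D.ε i : ℂ) * (x χ * S χ i) +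
      (1 / 4 : ℂ) * (x χ * (d χ : ℂ))) (fun χ _ => by ring),
      Finset.sum_add_distrib, ← Finset.mul_sum, ← Finset.mul_sum, hx x hxg]
    ring

end Rotations

end Cfsg.Agent.BC84.Sixteen
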